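import Cfsg.Agent.Lib.Fus.SUTwoRadical.Module

/-! Vectors over four elements as numbers. -/

set_option autoImplicit false
set_option linter.unusedSectionVars false

namespace Cfsg.Agent.Fus.SUTwoRadical

open Matrix Cfsg Cfsg.Agent.Classical Cfsg.Agent.Classical.PSUAut Cfsg.Agent.Spor Cfsg.Agent.Spor.UnitTwo
open Cfsg.Agent.Spor.USixTwo

/-- The vector of a number. -/
def vec (n c : ℕ) : Fin n → K4 := fun i => K4.of ((c >>> (2 * i.1)) % 4)

/-- A product in the field. -/
def mulN (a b : ℕ) : ℕ := (0x9C78E400 >>> (2 * (4 * a + b))) % 4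

/-- A conjugated product in the field. -/
def tN (a b : ℕ) : ℕ := mulN a ([0, 1, 3, 2].getD b 0)

/-- The form on numbers. -/
def hN : ℕ → ℕ → ℕ → ℕ
  | 0, _, _ => 0
  | n + 1, c, s => tN (c % 4) (s % 4) ^^^ hN n (c >>> 2) (s >>> 2)

/-- A multiple, on numbers. -/
def smN : ℕ → ℕ → ℕ → ℕ
  | 0, _, _ => 0
  | n + 1, a, c => mulN a (c % 4) ^^^ (smN n a (c >>> 2) <<< 2)

/-- The image under a transvection, on numbers. -/
def reflN (n s c : ℕ) : ℕ := c ^^^ smN n (hN n c s) s

theorem mulN_lt (a b : ℕ) : mulN a b < 4 := Nat.mod_lt _ (by norm_num)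

theorem hN_lt : ∀ n c s, hN n c s < 4
  | 0, _, _ => by simp [hN]
  | n + 1, c, s => Nat.xor_lt_two_pow (n := 2) (mulN_lt _ _) (hN_lt n _ _)

theorem mulN_spec : ∀ a b : Fin 4, K4.of a * K4.of b = K4.of (mulN a b) := by decide +kernel

theorem tN_spec : ∀ a b : Fin 4, K4.of a * (K4.of b) ^ 2 = K4.of (tN a b) := by decide +kernel

theorem add_spec : ∀ a b : Fin 4, K4.of a + K4.of b = K4.of (a ^^^ b : ℕ) := by decide +kernel

theorem mod_four_xor (a b : ℕ) : (a ^^^ b) % 4 = (a % 4) ^^^ (b % 4) := Nat.xor_mod_two_pow (n := 2)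

theorem vec_zero (n c : ℕ) : vec (n + 1) c 0 = K4.of (c % 4) := by simp [vec]

theorem vec_succ (n c : ℕ) (i : Fin n) : vec (n + 1) c i.succ = vec n (c >>> 2) i := by
  simp only [vec, Fin.val_succ, ← Nat.shiftRight_add]
  rw [show 2 * (i.1 + 1) = 2 + 2 * i.1 by ring]

theorem vec_xor (n a b : ℕ) : vec n (a ^^^ b) = vec n a + vec n b := by
  funext i
  simp only [vec, Pi.add_apply, Nat.shiftRight_xor_distrib, mod_four_xor]
  exact (add_spec ⟨_, Nat.mod_lt _ (by norm_num)⟩ ⟨_, Nat.mod_lt _ (by norm_num)⟩).symm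

theorem hN_spec : ∀ n c s, hermForm n K4 2 (vec n c) (vec n s) = K4.of (hN n c s)
  | 0, c, s => by simp [hermForm, hN]; rfl
  | n + 1, c, s => by
    have ih := hN_spec n (c >>> 2) (s >>> 2)
    simp only [hermForm] at ih ⊢
    rw [Fin.sum_univ_succ]
    simp only [vec_succ, vec_zero]
    rw [ih, hN]
    have h1 := tN_spec ⟨c % 4, Nat.mod_lt _ (by norm_num)⟩ ⟨s % 4, Nat.mod_lt _ (by norm_num)⟩
    rw [h1]
    exact add_spec ⟨_, mulN_lt _ _⟩ ⟨_, hN_lt n _ _⟩

theorem smN_spec {a : ℕ} (ha : a < 4) : ∀ n c, vec n (smN n a c) = K4.of a • vec n c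
  | 0, _ => funext fun i => i.elim0
  | n + 1, c => by
    have ih := smN_spec ha n (c >>> 2)
    have h1 : mulN a (c % 4) >>> 2 = 0 := by
      rw [Nat.shiftRight_eq_div_pow]; exact Nat.div_eq_of_lt (mulN_lt _ _)
    funext i
    refine Fin.cases ?_ (fun i => ?_) i
    · rw [Pi.smul_apply, vec_zero, vec_zero, smul_eq_mul, smN, mod_four_xor, Nat.shiftLeft_eq,
        show smN n a (c >>> 2) * 2 ^ 2 % 4 = 0 by omega, Nat.xor_zero, Nat.mod_eq_of_lt (mulN_lt _ _)]
      exact (mulN_spec ⟨a, ha⟩ ⟨c % 4, Nat.mod_lt _ (by norm_num)⟩).symm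
    · rw [Pi.smul_apply, vec_succ, vec_succ, smN, Nat.shiftRight_xor_distrib, h1, Nat.zero_xor,
        show smN n a (c >>> 2) <<< 2 >>> 2 = smN n a (c >>> 2) from by
          rw [Nat.shiftLeft_shiftRight], ih, Pi.smul_apply]

theorem reflN_spec (n s c : ℕ) :
    vec n (reflN n s c) = vec n c + hermForm n K4 2 (vec n c) (vec n s) • vec n s := by
  rw [reflN, vec_xor, smN_spec (hN_lt n c s), hN_spec]

theorem exists_code {n : ℕ} (v : Fin n → K4) : ∃ c < 4 ^ n, vec n c = v := by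
  refine ⟨(finFunctionFinEquiv fun i => (v i).v).1, (finFunctionFinEquiv _).2, funext fun i => ?_⟩
  have h1 := congrFun (finFunctionFinEquiv.symm_apply_apply fun i => (v i).v) i
  rw [Fin.ext_iff, finFunctionFinEquiv_symm_apply_val] at h1
  simp only [vec, Nat.shiftRight_eq_div_pow, pow_mul, show (2 : ℕ) ^ 2 = 4 by norm_num, h1]
  exact congrArg K4.mk (Fin.ext (Nat.mod_eq_of_lt (v i).v.2))

variable {G : Type*} [Group G] {D : Set G} {n : ℕ} {ρ : G →* SU n K4 2}

/-- A member over the transvection of a number. -/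
def Over (ρ : G →* SU n K4 2) (D : Set G) (c : ℕ) (d : G) : Prop :=
  d ∈ D ∧ suVal (ρ d) = eMat 2 (vec n c) (0 : Fin n → K4) (1 : K4)

theorem over_step (h : Hyp ρ D) {s c : ℕ} {e d : G} (he : Over ρ D s e) (hd : Over ρ D c d) :
    Over ρ D (reflN n s c) (e * d * e) := by
  refine ⟨by simpa [ThreeTrans.inv_eq h.three he.1] using h.conj e d hd.1, ?_⟩
  have e1 : ρ (e * d * e) = ρ e * ρ d * (ρ e)⁻¹ := by
    rw [← map_inv, ThreeTrans.inv_eq h.three he.1, map_mul, map_mul]
  rw [e1, suVal_mul, suVal_mul, hd.2, eMat_conj (card_sq h4), Matrix.mulVec_zero, he.2, T_apply h4, reflN_spec]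

theorem over_congr {c : ℕ} {d d' : G} (hd : Over ρ D c d) (hd' : Over ρ D c d') : ρ d = ρ d' :=
  suVal_ext (hd.2.trans hd'.2.symm)

theorem over_smul {c c' a : ℕ} (ha : 0 < a) (ha4 : a < 4) (hc : smN n a c = c') {d : G}
    (hd : Over ρ D c' d) : Over ρ D c d := by
  have h0 : ∀ a : Fin 4, a.1 ≠ 0 → K4.of a ≠ 0 := by decide +kernel
  exact ⟨hd.1, by rw [hd.2, ← hc, smN_spec ha4, T_smul h4 (h0 ⟨a, ha4⟩ (by simp; omega))]⟩

/-- The fibres over two numbers commute. -/
def CUN (ρ : G →* SU n K4 2) (D : Set G) (c c' : ℕ) : Prop :=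
  ∀ d e, Over ρ D c d → Over ρ D c' e → CU ρ D (ρ d) (ρ e)

theorem CUN.step (h : Hyp ρ D) {s : ℕ} {k : G} (hk : Over ρ D s k) {c c' : ℕ} (hs : CUN ρ D c c')
    (hc : reflN n s (reflN n s c) = c) (hc' : reflN n s (reflN n s c') = c') :
    CUN ρ D (reflN n s c) (reflN n s c') := by
  intro d e hd he
  have hd' := over_step h hk hd
  have he' := over_step h hk he
  rw [hc] at hd'
  rw [hc'] at he'
  have := (hs _ _ hd' he').conj h k
  simpa [← map_inv, ← map_mul, ThreeTrans.inv_eq h.three hk.1, mul_assoc, ThreeTrans.mul_self_mul h.three hk.1,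
    ThreeTrans.mul_self h.three hk.1] using this

/-- Follow a word of transvections, recording whether each step can be undone. -/
def walk (n : ℕ) (w : List ℕ) (p : ℕ × ℕ) : Option (ℕ × ℕ) :=
  w.foldl (fun o s => o.bind fun q =>
    if reflN n s (reflN n s q.1) = q.1 ∧ reflN n s (reflN n s q.2) = q.2 then
      some (reflN n s q.1, reflN n s q.2) else none) (some p)

theorem CUN.walk (h : Hyp ρ D) : ∀ (w : List ℕ), (∀ s ∈ w, ∃ k, Over ρ D s k) → ∀ {c c' r r' : ℕ},
    SUTwoRadical.walk n w (c, c') = some (r, r') → CUN ρ D c c' → CUN ρ D r r' := by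
  intro w
  induction w with
  | nil =>
    intro _ c c' r r' e hc
    simp [SUTwoRadical.walk] at e
    obtain ⟨rfl, rfl⟩ := e
    exact hc
  | cons s w ih =>
    intro hw c c' r r' e hc
    simp only [SUTwoRadical.walk, List.foldl_cons, Option.bind_some] at e
    split_ifs at e with hcond
    · obtain ⟨k, hk⟩ := hw s (by simp)
      exact ih (fun t ht => hw t (by simp [ht])) e (hc.step h hk hcond.1 hcond.2)
    · exfalso
      have hn : ∀ l : List ℕ, l.foldl (fun o s => o.bind fun q : ℕ × ℕ =>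
          if reflN n s (reflN n s q.1) = q.1 ∧ reflN n s (reflN n s q.2) = q.2 then
            some (reflN n s q.1, reflN n s q.2) else none) none = none := by
        intro l; induction l with
        | nil => rfl
        | cons a l ih' => simpa using ih'
      rw [hn] at e
      cases e

theorem CUN.smul {c c' d d' a b : ℕ} (hs : CUN ρ D c c') (ha : 0 < a) (ha4 : a < 4) (hb : 0 < b)
    (hb4 : b < 4) (hc : smN n a c = d) (hc' : smN n b c' = d') : CUN ρ D d d' :=
  fun x y hx hy => hs x y (over_smul ha ha4 hc hx) (over_smul hb hb4 hc' hy)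

/-- Isotropic numbers descend to the first one along the generators. -/
def descOk (n : ℕ) (s : List ℕ) (base dir rank : ℕ) (c : ℕ) : Bool :=
  decide (c = 0) || decide (c = base) || decide (hN n c c ≠ 0) ||
    (decide ((dir >>> (3 * c)) % 8 < s.length) &&
      decide (reflN n (s.getD ((dir >>> (3 * c)) % 8) 0) c ≠ 0) &&
      decide (reflN n (s.getD ((dir >>> (3 * c)) % 8) 0) c < 4 ^ n) &&
      decide (hN n (reflN n (s.getD ((dir >>> (3 * c)) % 8) 0) c)
        (reflN n (s.getD ((dir >>> (3 * c)) % 8) 0) c) = 0) &&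
      decide ((rank >>> (5 * reflN n (s.getD ((dir >>> (3 * c)) % 8) 0) c)) % 32 < (rank >>> (5 * c)) % 32))

theorem top_of_desc (h : Hyp ρ D) (hgen : Subgroup.closure D = ⊤)
    (hcl : ∀ d ∈ D, ∃ v : Fin n → K4, v ≠ 0 ∧ hermForm n K4 2 v v = 0 ∧
      suVal (ρ d) = eMat 2 v (0 : Fin n → K4) (1 : K4))
    {s : List ℕ} {base dir rank : ℕ} (hb : base ∈ s) (hex : ∀ x ∈ s, ∃ k, Over ρ D x k)
    (hok : ∀ c < 4 ^ n, descOk n s base dir rank c = true)
    (T : Subgroup G) (hT : ∀ x ∈ s, ∀ d, Over ρ D x d → d ∈ T) : T = ⊤ := by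
  have key : ∀ m c, c < 4 ^ n → c ≠ 0 → hN n c c = 0 → (rank >>> (5 * c)) % 32 < m →
      ∀ d, Over ρ D c d → d ∈ T := by
    intro m
    induction m with
    | zero => intro c _ _ _ h'; omega
    | succ m ih =>
      intro c hc hc0 hiso hm d hd
      have := hok c hc
      simp only [descOk, Bool.or_eq_true, Bool.and_eq_true, decide_eq_true_eq] at this
      rcases this with ((h1 | h1) | h1) | ⟨⟨⟨⟨h1, h2⟩, h3⟩, h4'⟩, h5⟩
      · exact absurd h1 hc0
      · exact hT base hb d (h1 ▸ hd)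
      · exact absurd hiso h1
      · have hx := s.getElem_mem h1
        rw [← List.getD_eq_getElem s 0 h1] at hx
        obtain ⟨k, hk⟩ := hex _ hx
        have hd' := ih _ h3 h2 h4' (by omega) _ (over_step h hk hd)
        have hkT := hT _ hx k hk
        have := mul_mem (mul_mem hkT hd') hkT
        simpa [mul_assoc, ThreeTrans.mul_self_mul h.three hk.1, ThreeTrans.mul_self h.three hk.1] using this
  rw [eq_top_iff, ← hgen, Subgroup.closure_le]
  intro d hd
  obtain ⟨v, hv0, hv, he⟩ := hcl d hd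
  obtain ⟨c, hc, rfl⟩ := exists_code v
  refine key ((rank >>> (5 * c)) % 32 + 1) c hc ?_ ?_ (Nat.lt_succ_self _) d ⟨hd, he⟩
  · rintro rfl
    exact hv0 (funext fun i => by simp [vec]; rfl)
  · rw [hN_spec] at hv
    have h0 : ∀ a : Fin 4, K4.of a = 0 → a.1 = 0 := by decide +kernel
    exact h0 ⟨_, hN_lt n c c⟩ hv

end Cfsg.Agent.Fus.SUTwoRadical
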