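import Cfsg.Agent.Lib.Spor.ThreeTrans

/-! Fibres of a class of 3-transpositions over a quotient by a 2-group, and the groups they span. -/

set_option autoImplicit false
set_option linter.unusedSectionVars false

namespace Cfsg.Agent.Fus.SUTwoRadical

open Cfsg Cfsg.Agent.Spor

variable {G H : Type*} [Group G] [Group H]

/-- The standing hypotheses. -/
structure Hyp (π : G →* H) (D : Set G) : Prop where
  three : IsThreeTranspositionSet D
  conj : ∀ g : G, ∀ d ∈ D, g * d * g⁻¹ ∈ D
  two : ∀ c : G, π c = 1 → ∃ k : ℕ, c ^ (2 ^ k) = 1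

/-- The group spanned by quotients of two members of one fibre. -/
def U (π : G →* H) (D : Set G) (x : H) : Subgroup G :=
  Subgroup.closure {a | ∃ d ∈ D, ∃ d' ∈ D, π d = x ∧ π d' = x ∧ d * d' = a}

/-- The groups of two fibres commute. -/
def CU (π : G →* H) (D : Set G) (x y : H) : Prop :=
  ∀ a ∈ U π D x, ∀ b ∈ U π D y, Commute a b

/-- The map of one fibre group to another. -/
def psi (e a : G) : G := a * (e * a * e)

variable {π : G →* H} {D : Set G}

theorem CU.symm {x y : H} (h : CU π D x y) : CU π D y x := fun a ha b hb => (h b hb a ha).symm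

theorem pair_mem {d d' : G} (hd : d ∈ D) (hd' : d' ∈ D) (h : π d = π d') : d * d' ∈ U π D (π d) :=
  Subgroup.subset_closure ⟨d, hd, d', hd', rfl, h.symm, rfl⟩

theorem psi_one (h : Hyp π D) {e : G} (he : e ∈ D) : psi e 1 = 1 := by
  simp [psi, ThreeTrans.mul_self h.three he]

theorem psi_of_commute (h : Hyp π D) {e a : G} (he : e ∈ D) (hc : Commute e a) (ha : a * a = 1) :
    psi e a = 1 := by
  rw [psi, hc.eq, mul_assoc a e e, ThreeTrans.mul_self h.three he, mul_one, ha]

theorem conj_eq_psi (e : G) {a : G} (ha : a * a = 1) : e * a * e = a * psi e a := by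
  rw [psi, ← mul_assoc, ha, one_mul]

variable (h : Hyp π D)

include h

theorem commute_image {d e : G} (hd : d ∈ D) (he : e ∈ D) (hc : Commute (π d) (π e)) : Commute d e := by
  rcases h.three.2 d hd e he with h2 | h3
  · have h' : d * e = (d * e)⁻¹ := eq_inv_of_mul_eq_one_left (by rwa [← pow_two])
    rw [mul_inv_rev, ThreeTrans.inv_eq h.three hd, ThreeTrans.inv_eq h.three he] at h'
    exact h'
  · have h2 : π (d * e) ^ 2 = 1 := by
      rw [map_mul, hc.mul_pow, ← map_pow, ← map_pow, pow_two, pow_two, ThreeTrans.mul_self h.three hd,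
        ThreeTrans.mul_self h.three he, map_one, one_mul]
    have h3' : π (d * e) ^ 3 = 1 := by rw [← map_pow, h3, map_one]
    rw [pow_succ, h2, one_mul] at h3'
    obtain ⟨k, hk⟩ := h.two _ h3'
    have hcop : Nat.Coprime 3 (2 ^ k) := Nat.Coprime.pow_right k (by decide)
    have h1 : d * e = 1 := by
      have hg := pow_gcd_eq_one.2 ⟨h3, hk⟩
      rwa [hcop.gcd_eq_one, pow_one] at hg
    rw [eq_inv_of_mul_eq_one_right h1]
    exact (Commute.refl d).inv_right

theorem U_ker {x : H} {a : G} (ha : a ∈ U π D x) : π a = 1 := by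
  refine (Subgroup.closure_le (K := π.ker)).2 ?_ ha
  rintro _ ⟨d, hd, d', -, hdx, hd'x, rfl⟩
  rw [SetLike.mem_coe, MonoidHom.mem_ker, map_mul, hd'x, ← hdx, ← map_mul,
    ThreeTrans.mul_self h.three hd, map_one]

theorem U_fix {e : G} (he : e ∈ D) {x : H} (hc : Commute (π e) x) {a : G} (ha : a ∈ U π D x) :
    Commute e a := by
  have hle : U π D x ≤ Subgroup.centralizer {e} := by
    refine (Subgroup.closure_le _).2 ?_
    rintro _ ⟨d, hd, d', hd', hdx, hd'x, rfl⟩
    rw [SetLike.mem_coe, Subgroup.mem_centralizer_singleton_iff]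
    exact (((commute_image h he hd (hdx ▸ hc)).mul_right (commute_image h he hd' (hd'x ▸ hc)))).eq.symm
  exact (Subgroup.mem_centralizer_singleton_iff.1 (hle ha)).symm

theorem CU_of_commute {x y : H} (hc : Commute x y) : CU π D x y := by
  intro a ha b hb
  have hle : U π D x ≤ Subgroup.centralizer {b} := by
    refine (Subgroup.closure_le _).2 ?_
    rintro _ ⟨d, hd, d', hd', hdx, hd'x, rfl⟩
    rw [SetLike.mem_coe, Subgroup.mem_centralizer_singleton_iff]
    exact ((U_fix h hd (hdx ▸ hc) hb).mul_left (U_fix h hd' (hd'x ▸ hc) hb)).eq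
  exact Subgroup.mem_centralizer_singleton_iff.1 (hle ha)

theorem U_comm {x : H} {a b : G} (ha : a ∈ U π D x) (hb : b ∈ U π D x) : Commute a b :=
  CU_of_commute h (Commute.refl x) a ha b hb

theorem U_sq {x : H} {a : G} (ha : a ∈ U π D x) : a * a = 1 := by
  induction ha using Subgroup.closure_induction with
  | mem a ha =>
    obtain ⟨d, hd, d', hd', hdx, hd'x, rfl⟩ := ha
    have hc := commute_image h hd hd' (by rw [hdx, hd'x])
    rw [mul_assoc, ← mul_assoc d', ← hc.eq, mul_assoc d, ThreeTrans.mul_self h.three hd', mul_one,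
      ThreeTrans.mul_self h.three hd]
  | one => rw [one_mul]
  | mul a b ha hb iha ihb =>
    rw [mul_assoc, ← mul_assoc b, ← (U_comm h ha hb).eq, mul_assoc a b b, ihb, mul_one, iha]
  | inv a ha iha => rw [inv_eq_of_mul_eq_one_right iha, iha]

theorem U_inv {x : H} {a : G} (ha : a ∈ U π D x) : a⁻¹ = a := inv_eq_of_mul_eq_one_right (U_sq h ha)

theorem U_conj (g : G) {x : H} {a : G} (ha : a ∈ U π D x) : g * a * g⁻¹ ∈ U π D (π g * x * (π g)⁻¹) := by
  have hle : U π D x ≤ (U π D (π g * x * (π g)⁻¹)).comap (MulAut.conj g).toMonoidHom := by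
    refine (Subgroup.closure_le _).2 ?_
    rintro _ ⟨d, hd, d', hd', hdx, hd'x, rfl⟩
    exact Subgroup.subset_closure ⟨_, h.conj g d hd, _, h.conj g d' hd', by simp [hdx], by simp [hd'x],
      by simp [mul_assoc]⟩
  exact hle ha

theorem CU.conj {x y : H} (hxy : CU π D x y) (g : G) :
    CU π D (π g * x * (π g)⁻¹) (π g * y * (π g)⁻¹) := by
  intro a ha b hb
  have key : ∀ {z : H} {c : G}, c ∈ U π D (π g * z * (π g)⁻¹) → g⁻¹ * c * g ∈ U π D z := fun {z c} hc => by
    simpa [mul_assoc] using U_conj h g⁻¹ hc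
  simpa [mul_assoc] using (hxy _ (key ha) _ (key hb)).map (MulAut.conj g).toMonoidHom

theorem U_conj_D {e : G} (he : e ∈ D) {x : H} {a : G} (ha : a ∈ U π D x) :
    e * a * e ∈ U π D (π e * x * π e) := by
  have := U_conj h e ha
  rwa [← map_inv, ThreeTrans.inv_eq h.three he] at this

/-- Two groups commute as soon as the fibres perpendicular to one of the two generate. -/
theorem CU_of_gen (hZ : Subgroup.center G = ⊥) {ι : Type*} {r : ι → H} {x y : H}
    (hgen : ∀ T : Subgroup G, (∀ k, ∀ d ∈ D, π d = r k → d ∈ T) → T = ⊤)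
    (hr : ∀ k, Commute (r k) x ∨ Commute (r k) y) : CU π D x y := by
  intro a ha b hb
  have key : ∀ {z : H} {u v : G}, u ∈ U π D z → π v = 1 → v * u * v⁻¹ ∈ U π D z := fun {z u v} hu hv => by
    simpa [hv] using U_conj h v hu
  set W := a * b * a⁻¹ * b⁻¹ with hW
  have h1 : W ∈ U π D x := by
    rw [hW, show a * b * a⁻¹ * b⁻¹ = a * (b * a⁻¹ * b⁻¹) by group]
    exact mul_mem ha (key (inv_mem ha) (U_ker h hb))
  have h2 : W ∈ U π D y := by
    rw [hW]
    exact mul_mem (key hb (U_ker h ha)) (inv_mem hb)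
  have hT := hgen (Subgroup.centralizer {W}) fun k d hd hdk => Subgroup.mem_centralizer_singleton_iff.2 <| by
    rcases hr k with hc | hc
    · exact (U_fix h hd (hdk ▸ hc) h1).eq
    · exact (U_fix h hd (hdk ▸ hc) h2).eq
  have hc : W ∈ Subgroup.center G := Subgroup.mem_center_iff.2 fun g =>
    Subgroup.mem_centralizer_singleton_iff.1 (hT ▸ Subgroup.mem_top g)
  rw [hZ, Subgroup.mem_bot] at hc
  exact commutatorElement_eq_one_iff_commute.1 hc

theorem psi_gen {d d' e : G} (hd : d ∈ D) (hd' : d' ∈ D) (he : e ∈ D) (hxy : π d' = π d)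
    (hne : ¬ Commute (π d) (π e)) (hcu : CU π D (π d) (π e)) :
    psi e (d * d') ∈ U π D (π e) ∧
      ∀ f ∈ D, π f = π d → f * psi e (d * d') * f = e * (d * d') * e := by
  have hcd := commute_image h hd hd' (by rw [hxy])
  have hn : ¬ Commute d e := fun k => hne (k.map π)
  have hn' : ¬ Commute d' e := fun k => hne (hxy ▸ k.map π)
  have s := fun {a : G} (ha : a ∈ D) => ThreeTrans.mul_self h.three ha
  set X := e * (d * d') * e with hX
  have hX' : X = (d * e * d) * (d' * e * d') := by
    rw [ThreeTrans.braid h.three hd he hn, ThreeTrans.braid h.three hd' he hn', hX]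
    simp only [mul_assoc, ThreeTrans.mul_self_mul h.three he]
  have hψ : psi e (d * d') = d' * X * d' := by
    calc psi e (d * d') = d * d' * X := rfl
      _ = d' * d * ((d * e * d) * (d' * e * d')) := by rw [hcd.eq, hX']
      _ = d' * X * d' := by simp only [hX, mul_assoc, ThreeTrans.mul_self_mul h.three hd]
  have hz : π d' * (π e * π d * π e) * π d' = π e := by
    have hb : π d * π e * π d = π e * π d * π e := by simpa using congrArg π (ThreeTrans.braid h.three hd he hn)
    have hdd : π d * π d = 1 := by rw [← map_mul, s hd, map_one]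
    rw [hxy, ← hb]
    simp only [← mul_assoc, hdd, one_mul]
    rw [mul_assoc, hdd, mul_one]
  have hXz : X ∈ U π D (π e * π d * π e) := U_conj_D h he (pair_mem hd hd' hxy.symm)
  have hm : psi e (d * d') ∈ U π D (π e) := by
    rw [hψ, ← hz]
    exact U_conj_D h hd' hXz
  refine ⟨hm, fun f hf hfd => ?_⟩
  have hu : Commute (f * d') (psi e (d * d')) := by
    have hu' := pair_mem hf hd' (by rw [hfd, hxy]) (π := π)
    rw [hfd] at hu'
    exact hcu _ hu' _ hm
  have hf' : f * d' * d' = f := by rw [mul_assoc, s hd', mul_one]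
  have hcf := commute_image h hf hd' (by rw [hfd, hxy])
  calc f * psi e (d * d') * f
      = d' * (f * d') * psi e (d * d') * (f * d') * d' := by
        rw [← mul_assoc d', ← hcf.eq, hf']
        conv_rhs => rw [mul_assoc _ (f * d') d', hf']
    _ = d' * psi e (d * d') * ((f * d') * (f * d')) * d' := by
        rw [mul_assoc d' (f * d'), hu.eq]; simp only [mul_assoc]
    _ = X := by
        have hu' := pair_mem hf hd' (by rw [hfd, hxy]) (π := π)
        rw [U_sq h hu', mul_one, hψ]
        simp only [mul_assoc, ThreeTrans.mul_self_mul h.three hd', s hd', mul_one]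

theorem psi_mul {x : H} {d e : G} (hd : d ∈ D) (he : e ∈ D) (hdx : π d = x) (hne : ¬ Commute (π d) (π e))
    (hcu : CU π D x (π e)) {a b : G} (ha : a ∈ U π D x) (hb : b ∈ U π D x) :
    psi e (a * b) = psi e a * psi e b := by
  subst hdx
  have hn : ¬ Commute d e := fun k => hne (k.map π)
  have hb' : π d * π e * π d = π e * π d * π e := by simpa using congrArg π (ThreeTrans.braid h.three hd he hn)
  have hdi : (π d)⁻¹ = π d := by rw [← map_inv, ThreeTrans.inv_eq h.three hd]
  have hcz : CU π D (π d) (π e * π d * π e) := by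
    have := hcu.conj h d
    rw [hdi] at this
    rw [← hb']
    have hdd : π d * π d = 1 := by rw [← map_mul, ThreeTrans.mul_self h.three hd, map_one]
    rwa [hdd, one_mul] at this
  have hc : Commute b (e * a * e) := hcz _ hb _ (U_conj_D h he ha)
  simp only [psi]
  calc a * b * (e * (a * b) * e) = a * (b * (e * a * e)) * (e * b * e) := by
        simp only [mul_assoc, ThreeTrans.mul_self_mul h.three he]
    _ = a * (e * a * e) * (b * (e * b * e)) := by rw [hc.eq]; simp only [mul_assoc]

theorem psi_spec {x : H} {d e : G} (hd : d ∈ D) (he : e ∈ D) (hdx : π d = x) (hne : ¬ Commute (π d) (π e))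
    (hcu : CU π D x (π e)) {a : G} (ha : a ∈ U π D x) :
    psi e a ∈ U π D (π e) ∧ ∀ f ∈ D, π f = x → f * psi e a * f = e * a * e := by
  induction ha using Subgroup.closure_induction with
  | mem a ha =>
    obtain ⟨d1, hd1, d2, hd2, h1, h2, rfl⟩ := ha
    have hne' : ¬ Commute (π d1) (π e) := by rwa [h1, ← hdx]
    obtain ⟨m, k⟩ := psi_gen h hd1 hd2 he (h2.trans h1.symm) hne' (h1 ▸ hcu)
    exact ⟨m, fun f hf hfx => k f hf (hfx.trans h1.symm)⟩
  | one =>
    rw [psi_one h he]
    refine ⟨one_mem _, fun f hf _ => ?_⟩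
    rw [mul_one, ThreeTrans.mul_self h.three hf, mul_one, ThreeTrans.mul_self h.three he]
  | mul a b ha hb iha ihb =>
    rw [psi_mul h hd he hdx hne hcu ha hb]
    refine ⟨mul_mem iha.1 ihb.1, fun f hf hfx => ?_⟩
    calc f * (psi e a * psi e b) * f = (f * psi e a * f) * (f * psi e b * f) := by
          simp only [mul_assoc, ThreeTrans.mul_self_mul h.three hf]
      _ = e * (a * b) * e := by
          rw [iha.2 f hf hfx, ihb.2 f hf hfx]
          simp only [mul_assoc, ThreeTrans.mul_self_mul h.three he]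
  | inv a ha iha => rwa [U_inv h ha]

theorem psi_mem {d e : G} (hd : d ∈ D) (he : e ∈ D) (hne : ¬ Commute (π d) (π e))
    (hcu : CU π D (π d) (π e)) {a : G} (ha : a ∈ U π D (π d)) : psi e a ∈ U π D (π e) :=
  (psi_spec h hd he rfl hne hcu ha).1

theorem psi_psi {d e : G} (hd : d ∈ D) (he : e ∈ D) (hne : ¬ Commute (π d) (π e))
    (hcu : CU π D (π d) (π e)) {a : G} (ha : a ∈ U π D (π d)) : psi d (psi e a) = a := by
  obtain ⟨-, k⟩ := psi_spec h hd he rfl hne hcu ha
  show psi e a * (d * psi e a * d) = a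
  rw [k d hd rfl, psi, mul_assoc]
  have := U_sq h (U_conj_D h he ha)
  rw [this, mul_one]

theorem psi_hom {d e : G} (hd : d ∈ D) (he : e ∈ D)
    (hcu : CU π D (π d) (π e)) {a b : G} (ha : a ∈ U π D (π d)) (hb : b ∈ U π D (π d)) :
    psi e (a * b) = psi e a * psi e b := by
  by_cases hc : Commute (π d) (π e)
  · rw [psi_of_commute h he (U_fix h he hc.symm (mul_mem ha hb)) (U_sq h (mul_mem ha hb)),
      psi_of_commute h he (U_fix h he hc.symm ha) (U_sq h ha),
      psi_of_commute h he (U_fix h he hc.symm hb) (U_sq h hb), one_mul]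
  · exact psi_mul h hd he rfl hc hcu ha hb

/-- The square of the monodromy of a triangle. -/
theorem monodromy {ei ej ek : G} (hi : ei ∈ D) (hj : ej ∈ D) (hk : ek ∈ D)
    (hij : ¬ Commute (π ei) (π ej)) (hjk : ¬ Commute (π ej) (π ek)) (hik : ¬ Commute (π ei) (π ek))
    (cij : CU π D (π ei) (π ej)) (cjk : CU π D (π ej) (π ek)) (cik : CU π D (π ei) (π ek))
    (hfk : ¬ Commute (π (ej * ei * ej)) (π ek)) (cfk : CU π D (π (ej * ei * ej)) (π ek))
    {b : G} (hb : b ∈ U π D (π ei)) :
    psi ei (psi ek (psi ej (psi ei (psi ek (psi ej b))))) * b = psi ei (psi ek (psi ej b)) := by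
  have hji := fun k : Commute (π ej) (π ei) => hij k.symm
  have hkj := fun k : Commute (π ek) (π ej) => hjk k.symm
  have hki := fun k : Commute (π ek) (π ei) => hik k.symm
  have s := fun {a : G} (ha : a ∈ D) => ThreeTrans.mul_self h.three ha
  let M : G → G := fun a => psi ei (psi ek (psi ej a))
  let N : G → G := fun a => psi ei (psi ej (psi ek a))
  have p1 : psi ej b ∈ U π D (π ej) := psi_mem h hi hj hij cij hb
  have p2 : psi ek (psi ej b) ∈ U π D (π ek) := psi_mem h hj hk hjk cjk p1
  have hMb : M b ∈ U π D (π ei) := psi_mem h hk hi hki cik.symm p2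
  have hMN : ∀ a ∈ U π D (π ei), M (N a) = a := fun a ha => by
    have q1 := psi_mem h hi hk hik cik ha
    have q2 := psi_mem h hk hj hkj cjk.symm q1
    show psi ei (psi ek (psi ej (psi ei (psi ej (psi ek a))))) = a
    rw [psi_psi h hj hi hji cij.symm q2, psi_psi h hk hj hkj cjk.symm q1, psi_psi h hi hk hik cik ha]
  have hNM : ∀ a ∈ U π D (π ei), N (M a) = a := fun a ha => by
    have q1 := psi_mem h hi hj hij cij ha
    have q2 := psi_mem h hj hk hjk cjk q1
    show psi ei (psi ej (psi ek (psi ei (psi ek (psi ej a))))) = a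
    rw [psi_psi h hk hi hki cik.symm q2, psi_psi h hj hk hjk cjk q1, psi_psi h hi hj hij cij ha]
  have hMmul : ∀ u ∈ U π D (π ei), ∀ v ∈ U π D (π ei), M (u * v) = M u * M v := fun u hu v hv => by
    have u1 := psi_mem h hi hj hij cij hu
    have v1 := psi_mem h hi hj hij cij hv
    show psi ei (psi ek (psi ej (u * v))) = _
    rw [psi_hom h hi hj cij hu hv, psi_hom h hj hk cjk u1 v1,
      psi_hom h hk hi cik.symm (psi_mem h hj hk hjk cjk u1) (psi_mem h hj hk hjk cjk v1)]
  have hNmem : ∀ u ∈ U π D (π ei), N u ∈ U π D (π ei) := fun u hu =>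
    psi_mem h hj hi hji cij.symm (psi_mem h hk hj hkj cjk.symm (psi_mem h hi hk hik cik hu))
  -- the pair of the conjugate root and the third one
  set f := ej * ei * ej with hf
  have hfD : f ∈ D := by
    have := h.conj ej ei hi
    rwa [ThreeTrans.inv_eq h.three hj] at this
  set a := ej * b * ej with hadef
  have ha : a ∈ U π D (π f) := by
    rw [hf, map_mul, map_mul]
    exact U_conj_D h hj hb
  set c := b * M b with hcdef
  have hc : c ∈ U π D (π ei) := mul_mem hb hMb
  set c' := psi ek c with hc'def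
  have hc' : c' ∈ U π D (π ek) := psi_mem h hi hk hik cik hc
  set q := psi ej c' with hqdef
  have hq : q ∈ U π D (π ej) := psi_mem h hk hj hkj cjk.symm hc'
  have hka : psi ek a = c' := by
    have e1 : a = b * psi ej b := conj_eq_psi ej (U_sq h hb)
    show a * (ek * a * ek) = c'
    rw [e1, show ek * (b * psi ej b) * ek = (ek * b * ek) * (ek * psi ej b * ek) by
      simp only [mul_assoc, ThreeTrans.mul_self_mul h.three hk],
      conj_eq_psi ek (U_sq h hb), conj_eq_psi ek (U_sq h p1)]
    have hkk : psi ek b ∈ U π D (π ek) := psi_mem h hi hk hik cik hb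
    have k1 : psi ek (M b) = psi ek (psi ej b) := psi_psi h hk hi hki cik.symm p2
    rw [hc'def, hcdef, psi_hom h hi hk cik hb hMb, k1]
    have hbk : Commute (psi ek b) (psi ej b) := (cjk _ p1 _ hkk).symm
    have hbb : Commute (psi ej b) b := (cij _ hb _ p1).symm
    calc b * psi ej b * (b * psi ek b * (psi ej b * psi ek (psi ej b)))
        = b * (psi ej b * b) * (psi ek b * psi ej b) * psi ek (psi ej b) := by simp only [mul_assoc]
      _ = (b * b) * (psi ej b * psi ej b) * psi ek b * psi ek (psi ej b) := by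
        rw [hbb.eq, hbk.eq]; simp only [mul_assoc]
      _ = psi ek b * psi ek (psi ej b) := by rw [U_sq h hb, U_sq h p1, one_mul, one_mul]
  have hX : ej * (c * N c) * ej = psi f c' := by
    have e1 : ej * c' * ej = c' * q := conj_eq_psi ej (U_sq h hc')
    have e2 : ei * c' * ei = c' * c := by
      rw [conj_eq_psi ei (U_sq h hc'), hc'def, psi_psi h hi hk hik cik hc]
    have e3 : ei * q * ei = q * N c := conj_eq_psi ei (U_sq h hq)
    have e4 : ej * q * ej = q := by
      rw [(U_fix h hj (Commute.refl _) hq).eq, mul_assoc, s hj, mul_one]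
    have hcq : Commute c q := cij _ hc _ hq
    show _ = c' * (f * c' * f)
    have : f * c' * f = ej * (ei * (ej * c' * ej) * ei) * ej := by rw [hf]; simp only [mul_assoc]
    rw [this, e1, show ei * (c' * q) * ei = (ei * c' * ei) * (ei * q * ei) by
      simp only [mul_assoc, ThreeTrans.mul_self_mul h.three hi], e2, e3,
      show c' * c * (q * N c) = c' * (c * q) * N c by simp only [mul_assoc], hcq.eq,
      show ej * (c' * (q * c) * N c) * ej = (ej * c' * ej) * (ej * q * ej) * (ej * (c * N c) * ej) by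
        simp only [mul_assoc, ThreeTrans.mul_self_mul h.three hj], e1, e4]
    rw [mul_assoc c' q q, U_sq h hq, mul_one, ← mul_assoc c' c', U_sq h hc', one_mul]
  have hb' : c * N c = b := by
    have hk' := psi_psi h hfD hk hfk cfk ha
    rw [hka, ← hX, hadef] at hk'
    exact mul_left_cancel (mul_right_cancel hk')
  have hMc : M c * c = M b := by
    conv_rhs => rw [← hb', hMmul c hc (N c) (hNmem c hc), hMN c hc]
  rw [hcdef, hMmul b hb (M b) hMb] at hMc
  have hMMb : M (M b) ∈ U π D (π ei) :=
    psi_mem h hk hi hki cik.symm (psi_mem h hj hk hjk cjk (psi_mem h hi hj hij cij hMb))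
  show M (M b) * b = M b
  rw [show M b * M (M b) * (b * M b) = (M b * M b) * (M (M b) * b) from by
    have := U_comm h hMb (mul_mem hMMb hb)
    rw [show M b * M (M b) * (b * M b) = M b * ((M (M b) * b) * M b) by simp only [mul_assoc], ← this.eq]
    simp only [mul_assoc], U_sq h hMb, one_mul] at hMc
  exact hMc

end Cfsg.Agent.Fus.SUTwoRadical
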