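import Cfsg.Agent.Lib.Fus.SUTwoRadical.Code

/-! A module over four elements with one nilpotent semilinear operator, inside the radical. -/

set_option autoImplicit false
set_option linter.unusedSectionVars false
set_option linter.style.haveILetI false

namespace Cfsg.Agent.Fus.SUTwoRadical

open Matrix Cfsg Cfsg.Agent.Classical Cfsg.Agent.Classical.PSUAut Cfsg.Agent.Spor Cfsg.Agent.Spor.UnitTwo
open Cfsg.Agent.Spor.USixTwo
open scoped IsMulCommutative

variable {A : Type*} [CommGroup A]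

/-- The product of pairs. -/
def rmul (p q : K4 × K4) : K4 × K4 := (p.1 * q.1, p.1 * q.2 + p.2 * (q.1 * q.1))

/-- The operators of two monodromies. -/
structure Pair (M N : A →* A) : Prop where
  sq : ∀ a : A, a * a = 1
  relM : ∀ a : A, M (M a) * a = M a
  relN : ∀ a : A, N (N a) * a = N a
  relMN : ∀ a : A, M (N (M a)) = N a * a

variable {M N : A →* A}

/-- The nilpotent operator. -/
def nil (M N : A →* A) (a : A) : A := M a * N a * a

/-- The operator of a pair. -/
def op (M N : A →* A) (p : K4 × K4) (a : A) : A := sc M p.1 a * sc M p.2 (nil M N a)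

theorem nil_hom (a b : A) : nil M N (a * b) = nil M N a * nil M N b := by
  simp only [nil, map_mul]
  ac_rfl

theorem Pair.scal (h : Pair M N) : Scal (⊤ : Subgroup A) M :=
  ⟨fun a _ b _ => mul_comm a b, fun a _ => h.sq a, fun a _ => Subgroup.mem_top _,
    fun a _ b _ => map_mul M a b, fun a _ => h.relM a⟩

theorem Pair.cancel (h : Pair M N) (a b : A) : a * (a * b) = b := by rw [← mul_assoc, h.sq, one_mul]

theorem Pair.eq_mul (h : Pair M N) {a b c : A} (e : a * b = c) : a = c * b := by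
  rw [← e, mul_assoc, h.sq, mul_one]

theorem Pair.anti (h : Pair M N) (a : A) : M (N a) * N (M a) = M a * (N a * a) := by
  have e1 : M (M (N (M a))) = M (N (M a)) * N (M a) := h.eq_mul (h.relM _)
  rw [h.relMN, map_mul] at e1
  calc M (N a) * N (M a) = (M (N a) * M a) * (M a * N (M a)) := by
        rw [mul_assoc (M (N a)), h.cancel]
    _ = (N a * a * N (M a)) * (M a * N (M a)) := by rw [e1]
    _ = M a * (N a * a) * (N (M a) * N (M a)) := by ac_rfl
    _ = M a * (N a * a) := by rw [h.sq, mul_one]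

theorem Pair.nil_swap (h : Pair M N) (a : A) : nil M N (M a) = M (nil M N a) * nil M N a := by
  have hm : M (M a) = M a * a := h.eq_mul (h.relM a)
  have h2 : N (M a) = M (N a) * (M a * (N a * a)) := by rw [← h.anti, h.cancel]
  calc nil M N (M a) = (M a * a) * N (M a) * M a := by rw [nil, hm]
    _ = M a * a * (M (N a) * (M a * (N a * a))) * M a * 1 := by rw [h2, mul_one]
    _ = (M a * a) * M (N a) * M a * (M a * N a * a) := by rw [mul_one]; ac_rfl
    _ = M (nil M N a) * nil M N a := by simp only [nil, map_mul, hm]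

theorem Pair.nil_nil (h : Pair M N) (a : A) : nil M N (nil M N a) = 1 := by
  have hm : M (M a) = M a * a := h.eq_mul (h.relM a)
  have hn : N (N a) = N a * a := h.eq_mul (h.relN a)
  simp only [nil, map_mul, hm, hn]
  calc M a * a * M (N a) * M a * (N (M a) * (N a * a) * N a) * (M a * N a * a)
      = (M (N a) * N (M a)) * (M a * M a) * (N a * N a) * (a * a) * (M a * N a * a) := by ac_rfl
    _ = M (N a) * N (M a) * (M a * (N a * a)) := by rw [h.sq, h.sq, h.sq]; simp only [mul_one]; ac_rfl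
    _ = 1 := by rw [h.anti, h.sq]

theorem Pair.sc_map (h : Pair M N) (c : K4) (a b : A) : sc M c (a * b) = sc M c a * sc M c b :=
  sc_hom h.scal c (Subgroup.mem_top a) (Subgroup.mem_top b)

theorem Pair.sc_nil (h : Pair M N) (c : K4) (a : A) : nil M N (sc M c a) = sc M (c * c) (nil M N a) := by
  rcases cases4 c with rfl | rfl | rfl | rfl
  · rw [mul_zero]
    show nil M N 1 = 1
    simp [nil]
  · rw [mul_one]; rfl
  · rw [show K4.of 2 * K4.of 2 = K4.of 3 by decide +kernel]
    exact h.nil_swap a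
  · rw [show K4.of 3 * K4.of 3 = K4.of 2 by decide +kernel, sc_w, sc_w2, nil_hom, h.nil_swap, mul_assoc,
      h.sq, mul_one]

theorem Pair.op_hom (h : Pair M N) (p : K4 × K4) (a b : A) : op M N p (a * b) = op M N p a * op M N p b := by
  simp only [op, nil_hom, h.sc_map]
  ac_rfl

theorem Pair.op_add (h : Pair M N) (p q : K4 × K4) (a : A) : op M N (p + q) a = op M N p a * op M N q a := by
  simp only [op, Prod.fst_add, Prod.snd_add, sc_add h.scal _ _ (Subgroup.mem_top _)]
  ac_rfl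

theorem Pair.op_rmul (h : Pair M N) (p q : K4 × K4) (a : A) : op M N (rmul p q) a = op M N p (op M N q a) := by
  have h0 : ∀ c, sc M c (1 : A) = 1 := fun c => by
    have := h.sc_map c 1 1
    rwa [one_mul, left_eq_mul] at this
  simp only [op, rmul, nil_hom, h.sc_nil, h.nil_nil, h0, h.sc_map, sc_add h.scal _ _ (Subgroup.mem_top _),
    sc_mul h.scal _ _ (Subgroup.mem_top _)]
  simp [mul_assoc]

theorem op_zero (a : A) : op M N 0 a = 1 := one_mul 1

theorem op_one (a : A) : op M N (1, 0) a = a := mul_one a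

variable {G : Type*} [Group G] [Finite G] {D : Set G} {n : ℕ}

/-- The data of a module. -/
structure FrameTwo (ρ : G →* SU n K4 2) (D : Set G) (i0 : Fin n) (A : Subgroup G) [IsMulCommutative A] where
  v : Fin n → Fin n → K4
  iso : ∀ k, hermForm n K4 2 (v k) (v k) = 0
  e : Fin n → G
  mem : ∀ k, e k ∈ D
  img : ∀ k, ρ (e k) = tv h4 (iso k)
  base : A = U ρ D (ρ (e i0))
  coef : (Fin n → K4) →ₗ[K4] (Fin n → K4)
  coef_v : ∀ j, coef (v j) = Pi.single j 1
  O : Fin n → Fin n → K4 × K4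
  O_fst : ∀ i j, (O i j).1 = hermForm n K4 2 (v i) (v j)
  P : Fin n → Fin n → K4 × K4
  P_O : ∀ k i, ∑ j, rmul (P k j) (O i j) = if i = k then ((1 : K4), (0 : K4)) else 0
  gen : ∀ T : Subgroup G, (∀ k, ∀ d ∈ D, ρ d = ρ (e k) → d ∈ T) → T = ⊤
  M : A →* A
  N : A →* A
  pair : Pair M N
  ι : Fin n → A → G
  cu : ∀ i j, CU ρ D (ρ (e i)) (ρ (e j))
  ι_mem : ∀ i b, ι i b ∈ U ρ D (ρ (e i))
  ι_hom : ∀ i a b, ι i (a * b) = ι i a * ι i b
  ι_inj : ∀ i b, ι i b = 1 → b = 1
  ι_base : ∀ b, ι i0 b = b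
  conjM : ∀ c, ρ c = 1 → ∀ b b' : A, c * (b : G) * c⁻¹ = b' → c * (M b : G) * c⁻¹ = M b'
  rule : ∀ i j b, psi (e j) (ι i b) = ι j (op M N (O i j) b)

variable {ρ : G →* SU n K4 2} {i0 : Fin n} {A : Subgroup G} [IsMulCommutative A]

theorem FrameTwo.radical_fix (Φ : FrameTwo ρ D i0 A) (h : Hyp ρ D) {c : G} (hc : ρ c = 1) {a : G}
    (ha : a ∈ U ρ D (ρ (Φ.e i0))) : Commute c a := by
  classical
  set Q : Subgroup G := Subgroup.closure (⋃ k, (U ρ D (ρ (Φ.e k)) : Set G)) with hQ
  haveI : IsMulCommutative Q := Subgroup.isMulCommutative_closure (k := ⋃ k, (U ρ D (ρ (Φ.e k)) : Set G))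
    fun x hx y hy => by
      obtain ⟨i, hi⟩ := Set.mem_iUnion.1 hx
      obtain ⟨j, hj⟩ := Set.mem_iUnion.1 hy
      exact (Φ.cu i j x hi y hj).eq
  have hQk : ∀ k, ∀ x ∈ U ρ D (ρ (Φ.e k)), x ∈ Q := fun k x hx =>
    Subgroup.subset_closure (Set.mem_iUnion.2 ⟨k, hx⟩)
  let ι' : Fin n → A →* Q := fun i =>
    MonoidHom.mk' (fun b => ⟨Φ.ι i b, hQk i _ (Φ.ι_mem i b)⟩) fun x y => Subtype.ext (Φ.ι_hom i x y)
  let Val : (Fin n → A) → G := fun Y => ((∏ i, ι' i (Y i) : Q) : G)
  let F : Fin n → (Fin n → A) → A := fun j Y => ∏ i, op Φ.M Φ.N (Φ.O i j) (Y i)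
  have hstep : ∀ j Y, Φ.e j * Val Y * Φ.e j = ((∏ i, ι' i (Y i) : Q) * ι' j (F j Y) : Q) := by
    intro j Y
    suffices hs : ∀ s : Finset (Fin n), Φ.e j * ((∏ i ∈ s, ι' i (Y i) : Q) : G) * Φ.e j =
        ((∏ i ∈ s, ι' i (Y i)) * ι' j (∏ i ∈ s, op Φ.M Φ.N (Φ.O i j) (Y i)) : Q) from hs Finset.univ
    intro s
    induction s using Finset.induction_on with
    | empty =>
      rw [Finset.prod_empty, Finset.prod_empty, map_one, one_mul, Subgroup.coe_one, mul_one,
        ThreeTrans.mul_self h.three (Φ.mem j)]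
    | insert i s hi ih =>
      have h1 : Φ.e j * (ι' i (Y i) : G) * Φ.e j =
          ((ι' i (Y i) * ι' j (op Φ.M Φ.N (Φ.O i j) (Y i)) : Q) : G) := by
        show Φ.e j * Φ.ι i (Y i) * Φ.e j = Φ.ι i (Y i) * Φ.ι j _
        rw [conj_eq_psi (Φ.e j) (U_sq h (Φ.ι_mem i _))]
        exact congrArg (Φ.ι i (Y i) * ·) (Φ.rule i j (Y i))
      rw [Finset.prod_insert hi, Finset.prod_insert hi, map_mul, Subgroup.coe_mul,
        show Φ.e j * ((ι' i (Y i) : G) * ((∏ x ∈ s, ι' x (Y x) : Q) : G)) * Φ.e j =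
          (Φ.e j * (ι' i (Y i) : G) * Φ.e j) * (Φ.e j * ((∏ x ∈ s, ι' x (Y x) : Q) : G) * Φ.e j) by
          simp only [mul_assoc, ThreeTrans.mul_self_mul h.three (Φ.mem j)],
        h1, ih, ← Subgroup.coe_mul]
      exact congrArg Subtype.val (mul_mul_mul_comm _ _ _ _)
  have hone : ∀ i, ι' i 1 = 1 := fun i => map_one _
  -- the components are unique
  have hdirect : ∀ Y, Val Y = 1 → ∀ k, Y k = 1 := by
    intro Y hY k
    have hF : ∀ j, F j Y = 1 := fun j => by
      refine Φ.ι_inj j _ ?_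
      have := hstep j Y
      rw [hY, mul_one, ThreeTrans.mul_self h.three (Φ.mem j)] at this
      rw [show (∏ i, ι' i (Y i) : Q) = 1 from Subtype.ext hY, one_mul] at this
      exact this.symm
    have hop1 : ∀ p, op Φ.M Φ.N p (1 : A) = 1 := fun p => by
      have := Φ.pair.op_hom p 1 1
      rwa [one_mul, left_eq_mul] at this
    have hopprod : ∀ p (s : Finset (Fin n)) (f : Fin n → A),
        op Φ.M Φ.N p (∏ i ∈ s, f i) = ∏ i ∈ s, op Φ.M Φ.N p (f i) := fun p s f => by
      induction s using Finset.induction_on with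
      | empty => simpa using hop1 p
      | insert i s hi ih => rw [Finset.prod_insert hi, Finset.prod_insert hi, Φ.pair.op_hom, ih]
    have hopsum : ∀ (b : A) (s : Finset (Fin n)) (f : Fin n → K4 × K4),
        op Φ.M Φ.N (∑ j ∈ s, f j) b = ∏ j ∈ s, op Φ.M Φ.N (f j) b := fun b s f => by
      induction s using Finset.induction_on with
      | empty => exact op_zero b
      | insert i s hi ih => rw [Finset.sum_insert hi, Finset.prod_insert hi, Φ.pair.op_add, ih]
    calc Y k = ∏ i, op Φ.M Φ.N (if i = k then ((1 : K4), (0 : K4)) else 0) (Y i) := by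
          rw [Finset.prod_eq_single_of_mem k (Finset.mem_univ k) fun i _ hi => by
            rw [if_neg hi, op_zero], if_pos rfl, op_one]
      _ = ∏ i, ∏ j, op Φ.M Φ.N (Φ.P k j) (op Φ.M Φ.N (Φ.O i j) (Y i)) := by
          refine Finset.prod_congr rfl fun i _ => ?_
          rw [← Φ.P_O k i, hopsum]
          exact Finset.prod_congr rfl fun j _ => Φ.pair.op_rmul _ _ _
      _ = ∏ j, op Φ.M Φ.N (Φ.P k j) (F j Y) := by
          rw [Finset.prod_comm]
          exact Finset.prod_congr rfl fun j _ => (hopprod _ _ _).symm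
      _ = 1 := Finset.prod_eq_one fun j _ => by rw [hF, hop1]
  let L : (Fin n → K4 × K4) → A → G := fun Z b => Val fun i => op Φ.M Φ.N (Z i) b
  let B : (Fin n → K4 × K4) → (Fin n → K4) := fun Z => ∑ i, (Z i).1 • Φ.v i
  let Rel : G → Prop := fun g => ∃ f : (Fin n → K4 × K4) → (Fin n → K4 × K4),
    (∀ Z, B (f Z) = suVal (ρ g) *ᵥ B Z) ∧ ∀ Z b, g * L Z b * g⁻¹ = L (f Z) b
  have hone' : Rel 1 := ⟨id, fun Z => by rw [map_one]; exact (Matrix.one_mulVec _).symm, fun Z b => by simp⟩
  have hmul : ∀ p q, Rel p → Rel q → Rel (p * q) := fun p q ⟨f, f1, f2⟩ ⟨g, g1, g2⟩ =>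
    ⟨f ∘ g, fun Z => by rw [Function.comp_apply, f1, g1, map_mul, suVal_mul, Matrix.mulVec_mulVec],
      fun Z b => by rw [Function.comp_apply, ← f2, ← g2]; simp [mul_assoc]⟩
  have hpow : ∀ p, Rel p → ∀ m : ℕ, Rel (p ^ m) := fun p hp m => by
    induction m with
    | zero => rw [pow_zero]; exact hone'
    | succ m ih => rw [pow_succ]; exact hmul _ _ ih hp
  let S : Subgroup G :=
    { carrier := {g | Rel g}
      one_mem' := hone'
      mul_mem' := fun {p q} hp hq => hmul p q hp hq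
      inv_mem' := fun {p} hp => by
        have e : p⁻¹ = p ^ (orderOf p - 1) := inv_eq_of_mul_eq_one_right (by
          rw [← pow_succ', Nat.sub_add_cancel (orderOf_pos p), pow_orderOf_eq_one])
        show Rel p⁻¹
        rw [e]; exact hpow p hp _ }
  have hS : S = ⊤ := Φ.gen S fun k d hd hdk => by
    refine ⟨fun Z i => Z i + if i = k then ∑ i', rmul (Φ.O i' k) (Z i') else 0, fun Z => ?_, fun Z b => ?_⟩
    · rw [hdk, Φ.img k, suVal_tv h4, T_apply h4]
      simp only [B, Prod.fst_add, add_smul, Finset.sum_add_distrib]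
      congr 1
      rw [Finset.sum_eq_single_of_mem k (Finset.mem_univ k) fun i _ hi => by
        rw [if_neg hi, Prod.fst_zero, zero_smul], if_pos rfl, Prod.fst_sum]
      congr 1
      simp only [rmul, Φ.O_fst, hermForm, Finset.sum_apply, Pi.smul_apply, smul_eq_mul, Finset.sum_mul]
      rw [Finset.sum_comm]
      exact Finset.sum_congr rfl fun x _ => Finset.sum_congr rfl fun y _ => by ring
    · have hu : d * Φ.e k ∈ Q := hQk k _ (hdk ▸ pair_mem hd (Φ.mem k) hdk)
      have he : Φ.e k * L Z b * Φ.e k =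
          L (fun i => Z i + if i = k then ∑ i', rmul (Φ.O i' k) (Z i') else 0) b := by
        refine (hstep k _).trans (congrArg Subtype.val ?_)
        simp only [Φ.pair.op_add, map_mul, Finset.prod_mul_distrib]
        congr 1
        rw [Finset.prod_eq_single_of_mem k (Finset.mem_univ k) fun i _ hi => by
          rw [if_neg hi, op_zero, map_one], if_pos rfl]
        congr 1
        have : ∀ s : Finset (Fin n), op Φ.M Φ.N (∑ i' ∈ s, rmul (Φ.O i' k) (Z i')) b =
            ∏ i' ∈ s, op Φ.M Φ.N (Φ.O i' k) (op Φ.M Φ.N (Z i') b) := fun s => by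
          induction s using Finset.induction_on with
          | empty => exact op_zero b
          | insert i s hi ih => rw [Finset.sum_insert hi, Finset.prod_insert hi, Φ.pair.op_add, ih, Φ.pair.op_rmul]
        exact (this _).symm
      have hcm : Commute (d * Φ.e k) (L (fun i => Z i + if i = k then ∑ i', rmul (Φ.O i' k) (Z i') else 0) b) :=
        congrArg Subtype.val (mul_comm (⟨_, hu⟩ : Q) (∏ i, ι' i (op Φ.M Φ.N _ b)))
      calc d * L Z b * d⁻¹ = (d * Φ.e k) * (Φ.e k * L Z b * Φ.e k) * (d * Φ.e k)⁻¹ := by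
            rw [_root_.mul_inv_rev, ThreeTrans.inv_eq h.three (Φ.mem k)]
            simp only [mul_assoc, ThreeTrans.mul_self_mul h.three (Φ.mem k)]
        _ = _ := by rw [he, hcm.eq, mul_inv_cancel_right]
  have hcS : c ∈ S := hS ▸ Subgroup.mem_top c
  obtain ⟨f, f1, f2⟩ := hcS
  -- the basis vector
  let δ : Fin n → K4 × K4 := fun i => if i = i0 then (1, 0) else 0
  have hLδ : ∀ b : A, L δ b = b := fun b => by
    show ((∏ i, ι' i (op Φ.M Φ.N (δ i) b) : Q) : G) = b
    rw [Finset.prod_eq_single_of_mem i0 (Finset.mem_univ i0) fun i _ hi => by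
      simp only [δ, if_neg hi, op_zero, map_one]]
    show Φ.ι i0 (op Φ.M Φ.N (if i0 = i0 then (1, 0) else 0) b) = b
    rw [if_pos rfl, op_one, Φ.ι_base]
  have hfst : ∀ i, (f δ i).1 = if i = i0 then 1 else 0 := fun i => by
    have hB : ∀ Z, Φ.coef (B Z) = fun i => (Z i).1 := fun Z => by
      simp only [B, map_sum, map_smul, Φ.coef_v]
      funext x
      simp [Pi.single_apply]
    have h1 := f1 δ
    rw [hc, show suVal (1 : SU n K4 2) *ᵥ B δ = B δ from Matrix.one_mulVec _] at h1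
    have h2 := congrArg (fun y => Φ.coef y i) h1
    simp only [hB] at h2
    rw [h2]
    show (if i = i0 then ((1 : K4), (0 : K4)) else 0).1 = _
    split_ifs <;> rfl
  have hmemA : ∀ b : A, c * (b : G) * c⁻¹ ∈ A := fun b => by
    have h2 := U_conj h c (Φ.base ▸ b.2 : (b : G) ∈ U ρ D (ρ (Φ.e i0)))
    rwa [hc, one_mul, inv_one, mul_one, ← Φ.base] at h2
  let γ : A → A := fun b => ⟨c * (b : G) * c⁻¹, hmemA b⟩
  -- only the first component survives
  have hγ : ∀ b : A, γ b = op Φ.M Φ.N (f δ i0) b := by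
    intro b
    let Y : Fin n → A := fun i => op Φ.M Φ.N (f δ i) b * if i = i0 then γ b else 1
    have hY : Val Y = 1 := by
      have h2 := f2 δ b
      rw [hLδ] at h2
      show ((∏ i, ι' i (Y i) : Q) : G) = 1
      simp only [Y, map_mul, Finset.prod_mul_distrib, Subgroup.coe_mul]
      rw [Finset.prod_eq_single_of_mem i0 (Finset.mem_univ i0)
        (f := fun i => ι' i (if i = i0 then γ b else 1)) fun i _ hi => by rw [if_neg hi, map_one], if_pos rfl]
      show L (f δ) b * Φ.ι i0 (γ b) = 1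
      rw [← h2, Φ.ι_base]
      exact congrArg Subtype.val (Φ.pair.sq (γ b))
    have h3 := hdirect Y hY i0
    simp only [Y, if_true] at h3
    rw [Φ.pair.eq_mul h3, one_mul]
  have hf0 : f δ i0 = (1, (f δ i0).2) := Prod.ext (by rw [hfst i0, if_pos rfl]) rfl
  -- the operator commutes with the first monodromy
  have haA : a ∈ A := Φ.base.symm ▸ ha
  obtain ⟨x, hx⟩ : ∃ x : K4, x = (f δ i0).2 := ⟨_, rfl⟩
  rw [← hx] at hf0
  have hop : ∀ b : A, γ b = b * sc Φ.M x (nil Φ.M Φ.N b) := fun b => by rw [hγ, hf0]; rfl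
  set b : A := ⟨a, haA⟩ with hb
  have h1 : γ (Φ.M b) = Φ.M (γ b) := Subtype.ext (Φ.conjM c hc b (γ b) rfl)
  rw [hop, hop, map_mul] at h1
  have h2 := mul_left_cancel h1
  have h3 : sc Φ.M x (Φ.M (nil Φ.M Φ.N b)) = Φ.M (sc Φ.M x (nil Φ.M Φ.N b)) := by
    have e1 := sc_mul Φ.pair.scal x (K4.of 2) (Subgroup.mem_top (nil Φ.M Φ.N b))
    have e2 := sc_mul Φ.pair.scal (K4.of 2) x (Subgroup.mem_top (nil Φ.M Φ.N b))
    rw [mul_comm, e2] at e1
    exact e1.symm
  rw [Φ.pair.nil_swap, Φ.pair.sc_map, h3, mul_eq_left] at h2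
  have h4 : γ b = b := by rw [hop, h2, mul_one]
  exact mul_inv_eq_iff_eq_mul.1 (congrArg Subtype.val h4)

end Cfsg.Agent.Fus.SUTwoRadical
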