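import Cfsg.Agent.Lib.Fus.SUTwoRadical.FiveLifts
import Cfsg.Agent.Lib.Fus.SUTwoRadical.ModuleTwo

/-! The radical of a group generated by 3-transpositions over `SU_5(2)`: elementary abelian and complemented. -/

set_option autoImplicit false
set_option linter.unusedSectionVars false
set_option linter.style.haveILetI false

namespace Cfsg.Agent.Fus.SUTwoRadical

open Cfsg Cfsg.Agent.Spor
open scoped IsMulCommutative

variable {G H : Type*} [Group G] [Group H] {π : G →* H} {D : Set G}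

theorem conj_indep (h : Hyp π D) {d' e' a : G} (hd : d' ∈ D) (he : e' ∈ D) (hx : π d' = π e') {x : H}
    (hcu : CU π D (π e') x) (ha : a ∈ U π D x) : d' * a * d' = e' * a * e' := by
  have hu : e' * d' ∈ U π D (π e') := pair_mem he hd hx.symm
  have hc : Commute (e' * d') a := hcu _ hu _ ha
  have hd' : d' = e' * (e' * d') := (ThreeTrans.mul_self_mul h.three he d').symm
  have hi : (e' * d')⁻¹ = d' * e' := by
    rw [_root_.mul_inv_rev, ThreeTrans.inv_eq h.three hd, ThreeTrans.inv_eq h.three he]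
  calc d' * a * d' = e' * ((e' * d') * a * (e' * d')⁻¹) * e' := by
        rw [hi]; simp only [mul_assoc, ThreeTrans.mul_self_mul h.three he, ThreeTrans.mul_self h.three he,
          mul_one]
    _ = e' * a * e' := by rw [hc.eq, mul_inv_cancel_right]

theorem psi_conj (h : Hyp π D) {c e' a : G} (hc : π c = 1) (he : e' ∈ D) {x : H} (hcu : CU π D (π e') x)
    (ha : a ∈ U π D x) : c * psi e' a * c⁻¹ = psi e' (c * a * c⁻¹) := by
  have ha' : c * a * c⁻¹ ∈ U π D x := by simpa [hc] using U_conj h c ha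
  have hd : c * e' * c⁻¹ ∈ D := h.conj c e' he
  have hx : π (c * e' * c⁻¹) = π e' := by simp [hc]
  show c * (a * (e' * a * e')) * c⁻¹ = c * a * c⁻¹ * (e' * (c * a * c⁻¹) * e')
  rw [← conj_indep h hd he hx hcu ha']
  simp [mul_assoc]

namespace Five

open Matrix Cfsg.Agent.Classical Cfsg.Agent.Classical.PSUAut Cfsg.Agent.Spor.UnitTwo
open Cfsg.Agent.Spor.USixTwo

/-- Coordinates with respect to the generators. -/
def coefMat : Matrix (Fin 5) (Fin 5) K4 := fun i c =>
  K4.of (([[2, 1, 0, 0, 0], [3, 1, 0, 0, 0], [3, 1, 1, 0, 0], [2, 1, 1, 0, 1], [2, 0, 1, 1, 1]] :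
    List (List ℕ)).getD c.1 []|>.getD i.1 0)

/-- A pair from two numbers. -/
def mk2 (a b : ℕ) : K4 × K4 := (K4.of a, K4.of b)

/-- The rules. -/
def O : Fin 5 → Fin 5 → K4 × K4 := fun i j =>
  (([[mk2 0 0, mk2 1 0, mk2 1 0, mk2 1 0, mk2 0 0], [mk2 1 0, mk2 0 0, mk2 2 0, mk2 0 0, mk2 1 0],
    [mk2 1 0, mk2 3 0, mk2 0 0, mk2 3 1, mk2 0 0], [mk2 1 0, mk2 0 0, mk2 2 1, mk2 0 0, mk2 0 0],
    [mk2 0 0, mk2 1 0, mk2 0 0, mk2 0 0, mk2 0 0]] : List (List (K4 × K4))).getD i.1 []).getD j.1 (0, 0)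

/-- An inverse of the rules. -/
def P : Fin 5 → Fin 5 → K4 × K4 := fun k j =>
  (([[mk2 1 0, mk2 0 0, mk2 3 1, mk2 2 1, mk2 0 3], [mk2 0 0, mk2 0 0, mk2 0 0, mk2 0 0, mk2 1 0],
    [mk2 2 1, mk2 0 0, mk2 1 0, mk2 1 0, mk2 0 1], [mk2 3 1, mk2 0 0, mk2 1 0, mk2 1 0, mk2 1 1],
    [mk2 0 3, mk2 1 0, mk2 0 1, mk2 1 1, mk2 0 0]] : List (List (K4 × K4))).getD k.1 []).getD j.1 (0, 0)

theorem P_O : ∀ k i : Fin 5, ∑ j, rmul (P k j) (O i j) = if i = k then ((1 : K4), (0 : K4)) else 0 := by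
  decide +kernel

theorem gen_props : ∀ k : Fin 5, hN 5 (gen k.1) (gen k.1) = 0 ∧ vec 5 (gen k.1) ≠ 0 := by decide +kernel

theorem O_fst' : ∀ i j : Fin 5, (O i j).1 = K4.of (hN 5 (gen i.1) (gen j.1)) := by decide +kernel

theorem O_zero : ∀ i j : Fin 5, hN 5 (gen i.1) (gen j.1) = 0 → O i j = 0 := by decide +kernel

theorem coef_gen : ∀ j i : Fin 5, ∑ c, coefMat i c * vec 5 (gen j.1) c = if i = j then 1 else 0 := by
  decide +kernel

theorem relMN_eq {A : Type*} [CommGroup A] (M N : A →* A) (hsq : ∀ a : A, a * a = 1)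
    (relM : ∀ a : A, M (M a) * a = M a) (relN : ∀ a : A, N (N a) * a = N a) (b : A)
    (h2 : b * M b * (b * N (b * M b)) *
      (M (M b * N (b * N (b * M b))) * (M b * N (b * N (b * M b)))) = 1) :
    M (N (M b)) = N b * b := by
  have hm : M (M b) = M b * b := by
    conv_rhs => rw [← relM b, mul_assoc, hsq, mul_one]
  have hn : ∀ t : A, N (N t) = N t * t := fun t => by
    conv_rhs => rw [← relN t, mul_assoc, hsq, mul_one]
  have e1 : N (b * N (b * M b)) = b * N (M b) * M b := by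
    rw [map_mul, map_mul, map_mul, hn, hn]
    calc N b * (N b * b * (N (M b) * M b)) = (N b * N b) * (b * N (M b) * M b) := by ac_rfl
      _ = b * N (M b) * M b := by rw [hsq, one_mul]
  have e2 : M b * (b * N (M b) * M b) = b * N (M b) := by
    calc M b * (b * N (M b) * M b) = (M b * M b) * (b * N (M b)) := by ac_rfl
      _ = b * N (M b) := by rw [hsq, one_mul]
  have e3 : b * M b * (b * N (b * M b)) = M b * N b * N (M b) := by
    rw [map_mul]
    calc b * M b * (b * (N b * N (M b))) = (b * b) * (M b * N b * N (M b)) := by ac_rfl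
      _ = M b * N b * N (M b) := by rw [hsq, one_mul]
  rw [e1, e2, e3, map_mul] at h2
  have h3 : M (N (M b)) * (N b * b) = 1 := by
    calc M (N (M b)) * (N b * b) = (M b * M b) * (N (M b) * N (M b)) * (M (N (M b)) * (N b * b)) := by
          rw [hsq, hsq, one_mul, one_mul]
      _ = M b * N b * N (M b) * (M b * M (N (M b)) * (b * N (M b))) := by ac_rfl
      _ = 1 := h2
  exact eq_comm.1 (inv_eq_of_mul_eq_one_right h3 ▸ (inv_eq_of_mul_eq_one_right (hsq (M (N (M b))))))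

variable {G : Type*} [Group G] [Finite G] {D : Set G}

set_option maxHeartbeats 1000000 in
theorem main {ρ : G →* SU 5 K4 2} (h : Hyp ρ D) (hD : IsThreeTranspositionClass D)
    (hZ : Subgroup.center G = ⊥) (hk : ∀ c, ρ c = 1 ↔ c ∈ pCore 2 G) [hN2 : (pCore 2 G).Normal]
    (hcl : ∀ d ∈ D, ∃ v : Fin 5 → K4, v ≠ 0 ∧ hermForm 5 K4 2 v v = 0 ∧
      suVal (ρ d) = eMat 2 v (0 : Fin 5 → K4) (1 : K4))
    (hex : ∀ c, vec 5 c ≠ 0 → hN 5 c c = 0 → ∃ d, Over ρ D c d) :
    IsElementaryAbelian 2 (pCore 2 G) ∧ ∃ K : Subgroup G, (pCore 2 G).IsComplement' K := by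
  classical
  choose e he using fun k : Fin 5 => hex (gen k.1) (gen_props k).2 (gen_props k).1
  let eN : ℕ → G := fun j => if hj : j < 5 then e ⟨j, hj⟩ else 1
  have heN : ∀ j < 5, Over ρ D (gen j) (eN j) := fun j hj => by
    simp only [eN, hj, dite_true]; exact he ⟨j, hj⟩
  have hgens : ∀ x ∈ gens, ∃ k : Fin 5, gen k.1 = x := by decide +kernel
  have hexg : ∀ x ∈ gens, ∃ d, Over ρ D x d := fun x hx => by
    obtain ⟨k, rfl⟩ := hgens x hx
    exact ⟨e k, he k⟩
  have hdesc : ∀ c < 4 ^ 5, descOk 5 gens 5 dir rank c = true := fun c hc =>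
    List.all_eq_true.1 desc_all c (List.mem_range.2 hc)
  have hgen : ∀ T : Subgroup G, (∀ k, ∀ d ∈ D, ρ d = ρ (e k) → d ∈ T) → T = ⊤ := fun T hT =>
    top_of_desc h hD.2.2 hcl (s := gens) (base := 5) (dir := dir) (rank := rank) (by decide) hexg hdesc T
      fun x hx d hd => by
        obtain ⟨k, rfl⟩ := hgens x hx
        exact hT k d hd.1 (over_congr hd (he k))
  have orth : ∀ i j : Fin 5, hN 5 (gen i.1) (gen j.1) = 0 → Commute (ρ (e i)) (ρ (e j)) := fun i j h0 =>
    commute_of_hN (he i) (he j) h0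
  have nc : ∀ i j : Fin 5, hN 5 (gen i.1) (gen j.1) ≠ 0 → ¬ Commute (ρ (e i)) (ρ (e j)) := fun i j h0 =>
    not_commute_of_hN (by norm_num) (he i) (he j) (gen_props i).1 (gen_props j).1 (gen_props i).2
      (gen_props j).2 h0
  have c14 : CU ρ D (ρ (e 1)) (ρ (e 4)) := by
    have hij : ∀ k : Fin 5, hN 5 (gen k.1) (gen 1) = 0 ∨ hN 5 (gen k.1) (gen 4) = 0 := by decide +kernel
    exact CU_of_gen h hZ hgen fun k => (hij k).imp (orth k 1) (orth k 4)
  have n14 : CUN ρ D (gen 1) (gen 4) := fun x y hx hy => by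
    rw [over_congr hx (he 1), over_congr hy (he 4)]; exact c14
  have tr : ∀ (w : List ℕ) (r r' : ℕ), (∀ x ∈ w, x ∈ gens) →
      walk 5 w (gen 1, gen 4) = some (r, r') → CUN ρ D r r' := fun w r r' hw hr =>
    CUN.walk h w (fun s hs => hexg s (hw s hs)) hr n14
  have c01 : CU ρ D (ρ (e 0)) (ρ (e 1)) :=
    tr [5, 11, 85] 5 11 (by decide) (by decide +kernel) _ _ (he 0) (he 1)
  have c02 : CU ρ D (ρ (e 0)) (ρ (e 2)) :=
    tr [20, 5, 331, 5, 20, 11, 5, 20, 331, 20, 5, 85, 11, 5, 331] 5 20 (by decide) (by decide +kernel)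
      _ _ (he 0) (he 2)
  have c03 : CU ρ D (ρ (e 0)) (ρ (e 3)) :=
    tr [5, 11, 5, 331, 5, 85, 11, 5, 331] 5 331 (by decide) (by decide +kernel) _ _ (he 0) (he 3)
  have c12 : CU ρ D (ρ (e 1)) (ρ (e 2)) :=
    ((tr [11, 20, 11, 85, 11, 20] 11 40 (by decide) (by decide +kernel)).smul (a := 1) (b := 3)
      (d := gen 1) (d' := gen 2) (by decide) (by decide) (by decide) (by decide)
      (by decide +kernel) (by decide +kernel)) _ _ (he 1) (he 2)
  have c23 : CU ρ D (ρ (e 2)) (ρ (e 3)) :=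
    ((tr [11, 20, 11, 331, 20, 85, 11, 20, 331] 40 331 (by decide) (by decide +kernel)).smul (a := 3) (b := 1)
      (d := gen 2) (d' := gen 3) (by decide) (by decide) (by decide) (by decide)
      (by decide +kernel) (by decide +kernel)) _ _ (he 2) (he 3)
  have hf1 : Over ρ D 14 (e 1 * e 0 * e 1) := by
    have := over_step h (he 1) (he 0)
    rwa [show reflN 5 (gen (1 : Fin 5).1) (gen (0 : Fin 5).1) = 14 by decide +kernel] at this
  have hf2 : Over ρ D 17 (e 2 * e 0 * e 2) := by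
    have := over_step h (he 2) (he 0)
    rwa [show reflN 5 (gen (2 : Fin 5).1) (gen (0 : Fin 5).1) = 17 by decide +kernel] at this
  have cf1 : CU ρ D (ρ (e 1 * e 0 * e 1)) (ρ (e 2)) :=
    ((tr [5, 20, 5, 11, 20, 85, 11] 9 40 (by decide) (by decide +kernel)).smul (a := 2) (b := 3)
      (d := 14) (d' := gen 2) (by decide) (by decide) (by decide) (by decide)
      (by decide +kernel) (by decide +kernel)) _ _ hf1 (he 2)
  have cf2 : CU ρ D (ρ (e 2 * e 0 * e 2)) (ρ (e 3)) :=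
    ((tr [5, 20, 5, 11, 5, 331, 85, 11, 20, 331, 5, 20, 11] 17 653 (by decide) (by decide +kernel)).smul
      (a := 1) (b := 3) (d := 17) (d' := gen 3) (by decide) (by decide) (by decide) (by decide)
      (by decide +kernel) (by decide +kernel)) _ _ hf2 (he 3)
  have nf1 : ¬ Commute (ρ (e 1 * e 0 * e 1)) (ρ (e 2)) :=
    not_commute_of_hN (by norm_num) hf1 (he 2) (by decide +kernel) (gen_props 2).1 (by decide +kernel)
      (gen_props 2).2 (by decide +kernel)
  have nf2 : ¬ Commute (ρ (e 2 * e 0 * e 2)) (ρ (e 3)) :=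
    not_commute_of_hN (by norm_num) hf2 (he 3) (by decide +kernel) (gen_props 3).1 (by decide +kernel)
      (gen_props 3).2 (by decide +kernel)
  have cu : ∀ i j, CU ρ D (ρ (e i)) (ρ (e j)) := by
    intro i j
    by_cases h0 : hN 5 (gen i.1) (gen j.1) = 0
    · exact CU_of_commute h (orth i j h0)
    fin_cases i <;> fin_cases j <;> first
      | exact absurd (by decide +kernel) h0
      | assumption
      | exact CU.symm (by assumption)
  have n : ∀ i j : Fin 5, hN 5 (gen i.1) (gen j.1) ≠ 0 → ∀ b ∈ U ρ D (ρ (e i)),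
      psi (e i) (psi (e j) b) = b ∧ psi (e j) b ∈ U ρ D (ρ (e j)) := fun i j h0 b hb =>
    ⟨psi_psi h (he i).1 (he j).1 (nc i j h0) (cu i j) hb, psi_mem h (he i).1 (he j).1 (nc i j h0) (cu i j) hb⟩
  have n01 := n 0 1 (by decide +kernel)
  have n02 := n 0 2 (by decide +kernel)
  have n03 := n 0 3 (by decide +kernel)
  have n10 := n 1 0 (by decide +kernel)
  have n20 := n 2 0 (by decide +kernel)
  have n30 := n 3 0 (by decide +kernel)
  have n12 := n 1 2 (by decide +kernel)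
  have n21 := n 2 1 (by decide +kernel)
  have n14' := n 1 4 (by decide +kernel)
  have n23 := n 2 3 (by decide +kernel)
  have n32 := n 3 2 (by decide +kernel)
  have hom : ∀ i j : Fin 5, ∀ a ∈ U ρ D (ρ (e i)), ∀ b ∈ U ρ D (ρ (e i)),
      psi (e j) (a * b) = psi (e j) a * psi (e j) b := fun i j a ha b hb =>
    psi_hom h (he i).1 (he j).1 (cu i j) ha hb
  let A : Subgroup G := U ρ D (ρ (e 0))
  haveI : IsMulCommutative A := ⟨⟨fun a b => Subtype.ext (U_comm h a.2 b.2).eq⟩⟩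
  let ι : Fin 5 → A → G := fun i => (![fun b : A => (b : G), fun b : A => psi (e 1) (b : G),
    fun b : A => psi (e 2) (b : G), fun b : A => psi (e 3) (b : G),
    fun b : A => psi (e 4) (psi (e 1) (b : G))] : Fin 5 → A → G) i
  let M : A →* A := MonoidHom.mk'
    (fun b => ⟨psi (e 0) (psi (e 2) (psi (e 1) b)), (n20 _ (n12 _ (n01 _ b.2).2).2).2⟩)
    fun a b => Subtype.ext (by
      show psi (e 0) (psi (e 2) (psi (e 1) ((a : G) * b))) = _
      rw [hom 0 1 _ a.2 _ b.2, hom 1 2 _ (n01 _ a.2).2 _ (n01 _ b.2).2,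
        hom 2 0 _ (n12 _ (n01 _ a.2).2).2 _ (n12 _ (n01 _ b.2).2).2]
      rfl)
  let N : A →* A := MonoidHom.mk'
    (fun b => ⟨psi (e 0) (psi (e 3) (psi (e 2) b)), (n30 _ (n23 _ (n02 _ b.2).2).2).2⟩)
    fun a b => Subtype.ext (by
      show psi (e 0) (psi (e 3) (psi (e 2) ((a : G) * b))) = _
      rw [hom 0 2 _ a.2 _ b.2, hom 2 3 _ (n02 _ a.2).2 _ (n02 _ b.2).2,
        hom 3 0 _ (n23 _ (n02 _ a.2).2).2 _ (n23 _ (n02 _ b.2).2).2]
      rfl)
  have hsq : ∀ a : A, a * a = 1 := fun a => Subtype.ext (U_sq h a.2)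
  have relM : ∀ a : A, M (M a) * a = M a := fun a => Subtype.ext
    (monodromy h (he 0).1 (he 1).1 (he 2).1 (nc 0 1 (by decide +kernel)) (nc 1 2 (by decide +kernel))
      (nc 0 2 (by decide +kernel)) c01 c12 c02 nf1 cf1 a.2)
  have relN : ∀ a : A, N (N a) * a = N a := fun a => Subtype.ext
    (monodromy h (he 0).1 (he 2).1 (he 3).1 (nc 0 2 (by decide +kernel)) (nc 2 3 (by decide +kernel))
      (nc 0 3 (by decide +kernel)) c02 c23 c03 nf2 cf2 a.2)
  have inv3 : ∀ (R : A →* A), (∀ a, R (R a) * a = R a) → ∀ b, R (R b * b) = b := fun R hR b => by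
    rw [map_mul, show R (R b) = R b * b by
      conv_rhs => rw [← hR b, mul_assoc, hsq, mul_one],
      mul_comm (R b) b, mul_assoc, hsq, mul_one]
  have ι_mem : ∀ i b, ι i b ∈ U ρ D (ρ (e i)) := by
    intro i b
    fin_cases i
    exacts [b.2, (n01 _ b.2).2, (n02 _ b.2).2, (n03 _ b.2).2, (n14' _ (n01 _ b.2).2).2]
  have ι_hom : ∀ i a b, ι i (a * b) = ι i a * ι i b := by
    intro i a b
    fin_cases i
    exacts [rfl, hom 0 1 _ a.2 _ b.2, hom 0 2 _ a.2 _ b.2, hom 0 3 _ a.2 _ b.2,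
      (congrArg (psi (e 4)) (hom 0 1 _ a.2 _ b.2)).trans (hom 1 4 _ (n01 _ a.2).2 _ (n01 _ b.2).2)]
  have ι_one : ∀ i, ι i 1 = 1 := fun i => by
    have := ι_hom i 1 1
    rwa [one_mul, left_eq_mul] at this
  have ι_inj : ∀ i b, ι i b = 1 → b = 1 := by
    intro i b hb
    refine Subtype.ext ?_
    have p : ∀ k : Fin 5, psi (e k) (1 : G) = 1 := fun k => psi_one h (he k).1
    fin_cases i
    · exact hb
    · change psi (e 1) (b : G) = 1 at hb
      rw [← (n01 _ b.2).1, hb]; exact p 0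
    · change psi (e 2) (b : G) = 1 at hb
      rw [← (n02 _ b.2).1, hb]; exact p 0
    · change psi (e 3) (b : G) = 1 at hb
      rw [← (n03 _ b.2).1, hb]; exact p 0
    · change psi (e 4) (psi (e 1) (b : G)) = 1 at hb
      rw [← (n01 _ b.2).1, ← (n14' _ (n01 _ b.2).2).1, hb, p 1]; exact p 0
  -- the rules between the adjacent generators
  have r01 : ∀ b, psi (e 1) (ι 0 b) = ι 1 b := fun b => rfl
  have r02 : ∀ b, psi (e 2) (ι 0 b) = ι 2 b := fun b => rfl
  have r03 : ∀ b, psi (e 3) (ι 0 b) = ι 3 b := fun b => rfl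
  have r14 : ∀ b, psi (e 4) (ι 1 b) = ι 4 b := fun b => rfl
  have r10 : ∀ b : A, psi (e 0) (ι 1 b) = ι 0 b := fun b => (n01 _ b.2).1
  have r20 : ∀ b : A, psi (e 0) (ι 2 b) = ι 0 b := fun b => (n02 _ b.2).1
  have r30 : ∀ b : A, psi (e 0) (ι 3 b) = ι 0 b := fun b => (n03 _ b.2).1
  have r41 : ∀ b : A, psi (e 1) (ι 4 b) = ι 1 b := fun b => (n14' _ (n01 _ b.2).2).1
  have r12 : ∀ b : A, psi (e 2) (ι 1 b) = ι 2 (M b) := fun b =>
    ((n20 _ (n12 _ (n01 _ b.2).2).2).1).symm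
  have r21 : ∀ b : A, psi (e 1) (ι 2 b) = ι 1 (M b * b) := fun b => by
    conv_lhs => rw [← inv3 M relM b, ← r12]
    exact (n12 _ (n01 _ (M b * b).2).2).1
  have r23 : ∀ b : A, psi (e 3) (ι 2 b) = ι 3 (N b) := fun b =>
    ((n30 _ (n23 _ (n02 _ b.2).2).2).1).symm
  have r32 : ∀ b : A, psi (e 2) (ι 3 b) = ι 2 (N b * b) := fun b => by
    conv_lhs => rw [← inv3 N relN b, ← r23]
    exact (n23 _ (n02 _ (N b * b).2).2).1
  have rperp : ∀ i j : Fin 5, hN 5 (gen i.1) (gen j.1) = 0 → ∀ b, psi (e j) (ι i b) = 1 := fun i j h0 b =>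
    psi_of_commute h (he j).1 (U_fix h (he j).1 (orth i j h0).symm (ι_mem i b)) (U_sq h (ι_mem i b))
  -- the relation between the two monodromies
  have relMN : ∀ b : A, M (N (M b)) = N b * b := by
    intro b
    set Q : Subgroup G := Subgroup.closure (⋃ k, (U ρ D (ρ (e k)) : Set G)) with hQ
    haveI : IsMulCommutative Q := Subgroup.isMulCommutative_closure (k := ⋃ k, (U ρ D (ρ (e k)) : Set G))
      fun x hx y hy => by
        obtain ⟨i, hi⟩ := Set.mem_iUnion.1 hx
        obtain ⟨j, hj⟩ := Set.mem_iUnion.1 hy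
        exact (cu i j x hi y hj).eq
    let J : Fin 5 → A →* Q := fun i => MonoidHom.mk'
      (fun t => ⟨ι i t, Subgroup.subset_closure (Set.mem_iUnion.2 ⟨i, ι_mem i t⟩)⟩)
      fun x y => Subtype.ext (ι_hom i x y)
    have hsplit : ∀ (j : Fin 5) (x y x' y' : Q), e j * (x : G) * e j = x' → e j * (y : G) * e j = y' →
        e j * ((x * y : Q) : G) * e j = ((x' * y' : Q) : G) := fun j x y x' y' hx hy => by
      rw [Subgroup.coe_mul, Subgroup.coe_mul, ← hx, ← hy]
      simp only [mul_assoc, ThreeTrans.mul_self_mul h.three (he j).1]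
    have hJ : ∀ (i j : Fin 5) (t r : A), psi (e j) (ι i t) = ι j r →
        e j * (J i t : G) * e j = ((J i t * J j r : Q) : G) := fun i j t r hr => by
      show e j * ι i t * e j = ι i t * ι j r
      rw [conj_eq_psi (e j) (U_sq h (ι_mem i t)), hr]
    have hJ0 : ∀ (i j : Fin 5) (t : A), hN 5 (gen i.1) (gen j.1) = 0 →
        e j * (J i t : G) * e j = (J i t : G) := fun i j t h0 => by
      show e j * ι i t * e j = ι i t
      rw [conj_eq_psi (e j) (U_sq h (ι_mem i t)), rperp i j h0 t, mul_one]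
    obtain ⟨c, hc⟩ : ∃ c, c = b * M b := ⟨_, rfl⟩
    obtain ⟨d, hd⟩ : ∃ d, d = b * N c := ⟨_, rfl⟩
    obtain ⟨g, hg⟩ : ∃ g, g = c * d := ⟨_, rfl⟩
    obtain ⟨g2, hg2⟩ : ∃ g2, g2 = M b * N d := ⟨_, rfl⟩
    have x1 : e 1 * (J 0 b : G) * e 1 = ((J 0 b * J 1 b : Q) : G) := hJ 0 1 b b (r01 b)
    have x2 : e 2 * ((J 0 b * J 1 b : Q) : G) * e 2 = ((J 0 b * J 1 b * J 2 c : Q) : G) := by
      rw [hsplit 2 _ _ _ _ (hJ 0 2 b b (r02 b)) (hJ 1 2 b (M b) (r12 b))]
      congr 1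
      rw [hc, map_mul]; ac_rfl
    have x3 : e 3 * ((J 0 b * J 1 b * J 2 c : Q) : G) * e 3 = ((J 0 b * J 1 b * J 2 c * J 3 d : Q) : G) := by
      rw [hsplit 3 _ _ _ _ (hsplit 3 _ _ _ _ (hJ 0 3 b b (r03 b)) (hJ0 1 3 b (by decide +kernel)))
        (hJ 2 3 c (N c) (r23 c))]
      congr 1
      rw [hd, map_mul]; ac_rfl
    have x4 : e 0 * ((J 0 b * J 1 b * J 2 c * J 3 d : Q) : G) * e 0 =
        ((J 0 g * J 1 b * J 2 c * J 3 d : Q) : G) := by
      rw [hsplit 0 _ _ _ _ (hsplit 0 _ _ _ _ (hsplit 0 _ _ _ _ (hJ0 0 0 b (by decide +kernel))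
        (hJ 1 0 b b (r10 b))) (hJ 2 0 c c (r20 c))) (hJ 3 0 d d (r30 d))]
      congr 1
      rw [show g = (b * b) * (c * d) by rw [hsq, one_mul, hg]]
      simp only [map_mul]; ac_rfl
    have x5 : e 2 * ((J 0 g * J 1 b * J 2 c * J 3 d : Q) : G) * e 2 =
        ((J 0 g * J 1 b * J 2 g2 * J 3 d : Q) : G) := by
      rw [hsplit 2 _ _ _ _ (hsplit 2 _ _ _ _ (hsplit 2 _ _ _ _ (hJ 0 2 g g (r02 g))
        (hJ 1 2 b (M b) (r12 b))) (hJ0 2 2 c (by decide +kernel))) (hJ 3 2 d (N d * d) (r32 d))]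
      congr 1
      rw [show g2 = (c * c) * (d * d) * (M b * N d) by rw [hsq, hsq, one_mul, one_mul, hg2]]
      simp only [hg, map_mul]; ac_rfl
    -- the root reached is perpendicular to the second generator
    obtain ⟨f, hf⟩ : ∃ f, f = e 2 * (e 0 * (e 3 * (e 2 * (e 1 * e 0 * e 1) * e 2) * e 3) * e 0) * e 2 := ⟨_, rfl⟩
    have hX : ((J 0 g * J 1 b * J 2 g2 * J 3 d : Q) : G) ∈ U ρ D (ρ f) := by
      rw [← x5, ← x4, ← x3, ← x2, ← x1, hf]
      simp only [map_mul]
      exact U_conj_D h (he 2).1 (U_conj_D h (he 0).1 (U_conj_D h (he 3).1 (U_conj_D h (he 2).1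
        (U_conj_D h (he 1).1 b.2))))
    have hfo : Over ρ D (reflN 5 (gen 2) (reflN 5 (gen 0) (reflN 5 (gen 3) (reflN 5 (gen 2)
        (reflN 5 (gen 1) (gen 0)))))) f := by
      rw [hf]
      exact over_step h (he 2) (over_step h (he 0) (over_step h (he 3) (over_step h (he 2)
        (over_step h (he 1) (he 0)))))
    have hfix := U_fix h (he 1).1 (commute_of_hN hfo (he 1) (by decide +kernel)).symm hX
    have x6 : e 1 * ((J 0 g * J 1 b * J 2 g2 * J 3 d : Q) : G) * e 1 =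
        (((J 0 g * J 1 b * J 2 g2 * J 3 d) * J 1 (g * (M g2 * g2)) : Q) : G) := by
      rw [hsplit 1 _ _ _ _ (hsplit 1 _ _ _ _ (hsplit 1 _ _ _ _ (hJ 0 1 g g (r01 g))
        (hJ0 1 1 b (by decide +kernel))) (hJ 2 1 g2 _ (r21 g2))) (hJ0 3 1 d (by decide +kernel))]
      congr 1
      simp only [map_mul]; ac_rfl
    rw [hfix.eq, mul_assoc, ThreeTrans.mul_self h.three (he 1).1, mul_one] at x6
    have h1 : J 1 (g * (M g2 * g2)) = 1 := mul_eq_left.1 (Subtype.ext x6).symm
    have h2 : g * (M g2 * g2) = 1 := ι_inj 1 _ (congrArg Subtype.val h1)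
    exact relMN_eq M N hsq relM relN b (by rw [hg, hg2, hd, hc] at h2; exact h2)
  have pair : Pair M N := ⟨hsq, relM, relN, relMN⟩
  have opw : ∀ b : A, op M N (mk2 3 1) b = N b := fun b => by
    show M b * b * nil M N b = N b
    rw [nil, show M b * b * (M b * N b * b) = (M b * M b) * (b * b) * N b by ac_rfl, hsq, hsq, one_mul, one_mul]
  have opw' : ∀ b : A, op M N (mk2 2 1) b = N b * b := fun b => by
    show M b * nil M N b = N b * b
    rw [nil, show M b * (M b * N b * b) = (M b * M b) * (N b * b) by ac_rfl, hsq, one_mul]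
  have rule : ∀ i j b, psi (e j) (ι i b) = ι j (op M N (O i j) b) := by
    intro i j b
    by_cases h0 : hN 5 (gen i.1) (gen j.1) = 0
    · rw [O_zero i j h0, op_zero, ι_one, rperp i j h0]
    have key : ∀ (i j : Fin 5) (r : A), op M N (O i j) b = r → psi (e j) (ι i b) = ι j r →
        psi (e j) (ι i b) = ι j (op M N (O i j) b) := fun i j r e1 e2 => e1.symm ▸ e2
    fin_cases i <;> fin_cases j <;> first | exact absurd (by decide +kernel) h0 | skip
    · exact key 0 1 b (op_one b) (r01 b)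
    · exact key 0 2 b (op_one b) (r02 b)
    · exact key 0 3 b (op_one b) (r03 b)
    · exact key 1 0 b (op_one b) (r10 b)
    · exact key 1 2 (M b) (mul_one _) (r12 b)
    · exact key 1 4 b (op_one b) (r14 b)
    · exact key 2 0 b (op_one b) (r20 b)
    · exact key 2 1 (M b * b) (mul_one _) (r21 b)
    · exact key 2 3 (N b) (opw b) (r23 b)
    · exact key 3 0 b (op_one b) (r30 b)
    · exact key 3 2 (N b * b) (opw' b) (r32 b)
    · exact key 4 1 b (op_one b) (r41 b)
  have conjM : ∀ c, ρ c = 1 → ∀ b b' : A, c * (b : G) * c⁻¹ = b' → c * (M b : G) * c⁻¹ = M b' := by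
    intro c hc b b' hb
    show c * psi (e 0) (psi (e 2) (psi (e 1) (b : G))) * c⁻¹ = psi (e 0) (psi (e 2) (psi (e 1) (b' : G)))
    rw [psi_conj h hc (he 0).1 (cu 0 2) (n12 _ (n01 _ b.2).2).2, psi_conj h hc (he 2).1 (cu 2 1) (n01 _ b.2).2,
      psi_conj h hc (he 1).1 (cu 1 0) b.2, hb]
  have hiso : ∀ k : Fin 5, hermForm 5 K4 2 (vec 5 (gen k.1)) (vec 5 (gen k.1)) = 0 := fun k => by
    rw [hN_spec, (gen_props k).1]; rfl
  let Φ : FrameTwo ρ D 0 A :=
    { v := fun k => vec 5 (gen k.1)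
      iso := hiso
      e := e
      mem := fun k => (he k).1
      img := fun k => suVal_ext (he k).2
      base := rfl
      coef := Matrix.mulVecLin coefMat
      coef_v := fun j => funext fun i => by
        rw [Matrix.mulVecLin_apply]
        exact (coef_gen j i).trans (Pi.single_apply j (1 : K4) i).symm
      O := O
      O_fst := fun i j => by rw [hN_spec]; exact O_fst' i j
      P := P
      P_O := P_O
      gen := hgen
      M := M
      N := N
      pair := pair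
      ι := ι
      cu := cu
      ι_mem := ι_mem
      ι_hom := ι_hom
      ι_inj := ι_inj
      ι_base := fun _ => rfl
      conjM := conjM
      rule := rule }
  have hab := elementary_of_fix h hD hZ hk (he 0).1 fun c hc a ha => Φ.radical_fix h hc ha
  refine ⟨hab, Subgroup.closure (eN '' Set.Iio 5), ?_⟩
  have hcomm : ∀ a b : G, ρ a = 1 → ρ b = 1 → Commute a b := fun a b ha hb => by
    have := hab.1.1.comm ⟨a, (hk a).1 ha⟩ ⟨b, (hk b).1 hb⟩
    exact congrArg Subtype.val this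
  have hgenN : ∀ T : Subgroup G, (∀ j < 5, ∀ d ∈ D, ρ d = ρ (eN j) → d ∈ T) → T = ⊤ := fun T hT =>
    hgen T fun k d hd hdk => hT k.1 k.2 d hd (by simp only [eN, k.2, dite_true, Fin.eta]; exact hdk)
  set K := Subgroup.closure (eN '' Set.Iio 5) with hK
  have hdisj : Disjoint (pCore 2 G) K := by
    rw [Subgroup.disjoint_def]
    exact fun {x} hx hxK => closure_inter h heN hcomm hZ hgenN hxK ((hk x).2 hx)
  have htop : pCore 2 G ⊔ K = ⊤ := hgenN _ fun j hj d hd hdj => by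
    have h1 : d * eN j ∈ pCore 2 G := (hk _).1 (by
      rw [map_mul, hdj, ← map_mul, ThreeTrans.mul_self h.three (heN j hj).1, map_one])
    have h2 : eN j ∈ K := Subgroup.subset_closure ⟨j, hj, rfl⟩
    have h3 := mul_mem (Subgroup.mem_sup_left (T := K) h1) (Subgroup.mem_sup_right (S := pCore 2 G) h2)
    rwa [mul_assoc, ThreeTrans.mul_self h.three (heN j hj).1, mul_one] at h3
  refine Subgroup.isComplement'_of_disjoint_and_mul_eq_univ hdisj ?_
  rw [← Subgroup.normal_mul, htop, Subgroup.coe_top]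

end Five

end Cfsg.Agent.Fus.SUTwoRadical
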