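import Cfsg.Agent.Lib.Fus.SUTwoRadical.SevenTable

/-! The radical of a group generated by 3-transpositions over `SU_7(2)` is elementary abelian. -/

set_option autoImplicit false
set_option linter.unusedSectionVars false

namespace Cfsg.Agent.Fus.SUTwoRadical

open Matrix Cfsg Cfsg.Agent.Classical Cfsg.Agent.Classical.PSUAut Cfsg.Agent.Spor Cfsg.Agent.Spor.UnitTwo
open Cfsg.Agent.Spor.USixTwo Cfsg.Agent.Block.FischerTypes

variable {G : Type*} [Group G] [Finite G] {D : Set G}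

/-- The map onto the unitary group. -/
theorem exists_lift (hD : IsThreeTranspositionClass D) {n : ℕ} (hn : 3 ≤ n) (h3 : n % 3 ≠ 0)
    {F : Type} [Field F] [Fintype F] (hF : Fintype.card F = 4) [(pCore 2 G).Normal]
    (θ : G ⧸ pCore 2 G ≃* SU n F 2) :
    ∃ ρ : G →* SU n K4 2, Hyp ρ D ∧ (∀ c, ρ c = 1 ↔ c ∈ pCore 2 G) ∧
      (∀ d ∈ D, ∃ v : Fin n → K4, v ≠ 0 ∧ hermForm n K4 2 v v = 0 ∧
        suVal (ρ d) = eMat 2 v (0 : Fin n → K4) (1 : K4)) ∧
      (∀ c, vec n c ≠ 0 → hN n c c = 0 → ∃ d, Over ρ D c d) := by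
  obtain ⟨π, hπ, hker, himg⟩ := exists_proj hD hn h3 hF θ
  let σ : SU n K4 2 ≃* PSU n K4 2 :=
    MulEquiv.ofBijective (suToPSU n K4 2) ⟨suToPSU_injective hn h3, pi_surjective⟩
  let ρ : G →* SU n K4 2 := σ.symm.toMonoidHom.comp π
  have hk : ∀ c, ρ c = 1 ↔ π c = 1 := fun c => MulEquiv.map_eq_one_iff σ.symm
  refine ⟨ρ, ⟨hπ.three, hπ.conj, fun c hc => hπ.two c ((hk c).1 hc)⟩, fun c => (hk c).trans (hker c),
    fun d hd => ?_, fun c hc0 hc => ?_⟩
  · obtain ⟨v, hv0, hv, e⟩ := himg.subset ⟨d, hd, rfl⟩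
    refine ⟨v, hv0, hv, ?_⟩
    have : ρ d = tv h4 hv := σ.symm_apply_eq.2 (by rw [← e]; rfl)
    rw [this, suVal_tv h4]
  · have hv : hermForm n K4 2 (vec n c) (vec n c) = 0 := by rw [hN_spec, hc]; rfl
    obtain ⟨d, hd, e⟩ := himg.symm.subset ⟨_, hc0, hv, rfl⟩
    have : ρ d = tv h4 hv := σ.symm_apply_eq.2 (by rw [e]; rfl)
    exact ⟨d, hd, by rw [this, suVal_tv h4]⟩

variable {n : ℕ} {ρ : G →* SU n K4 2}

theorem commute_of_hN {c c' : ℕ} {d e : G} (hd : Over ρ D c d) (he : Over ρ D c' e) (h0 : hN n c c' = 0) :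
    Commute (ρ d) (ρ e) :=
  comm_of_orth (card_sq h4) (by rw [hN_spec, h0]; rfl) hd.2 he.2

theorem not_commute_of_hN (hn : 1 ≤ n) {c c' : ℕ} {d e : G} (hd : Over ρ D c d) (he : Over ρ D c' e)
    (hc : hN n c c = 0) (hc' : hN n c' c' = 0) (hne : vec n c ≠ 0) (hne' : vec n c' ≠ 0)
    (h0 : hN n c c' ≠ 0) : ¬ Commute (ρ d) (ρ e) := by
  intro hcm
  have hu : hermForm n K4 2 (vec n c) (vec n c) = 0 := by rw [hN_spec, hc]; rfl
  have hv : hermForm n K4 2 (vec n c') (vec n c') = 0 := by rw [hN_spec, hc']; rfl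
  have e1 : ρ d = tv h4 hu := suVal_ext hd.2
  have e2 : ρ e = tv h4 hv := suVal_ext he.2
  rw [e1, e2] at hcm
  have h1 := (U6.root_commute h4 hn hu hv hne hne').1 (hcm.map _)
  have h0' : ∀ a : Fin 4, K4.of a = 0 → a.1 = 0 := by decide +kernel
  exact h0 (h0' ⟨_, hN_lt n c c'⟩ ((hN_spec n c c').symm.trans h1))

namespace Seven

/-- The code of a generator. -/
def code (k : Fin 7) : ℕ := gens.getD k.1 0

/-- Coordinates with respect to the generators. -/
def coefMat : Matrix (Fin 7) (Fin 7) K4 := fun i c =>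
  K4.of (([[2, 1, 0, 0, 0, 0, 0], [3, 1, 0, 0, 0, 0, 0], [2, 0, 2, 1, 0, 0, 0], [3, 0, 3, 1, 0, 0, 0],
    [1, 0, 1, 2, 1, 0, 0], [1, 0, 1, 2, 1, 1, 0], [1, 0, 1, 2, 1, 1, 1]] : List (List ℕ)).getD c.1 []|>.getD i.1 0)

theorem code_props : ∀ k : Fin 7, hN 7 (code k) (code k) = 0 ∧ vec 7 (code k) ≠ 0 := by decide +kernel

theorem coef_code : ∀ j i : Fin 7, ∑ c, coefMat i c * vec 7 (code j) c = if i = j then 1 else 0 := by
  decide +kernel

theorem coef_left : ∀ c r : Fin 7, ∑ i, coefMat i c * vec 7 (code i) r = if r = c then 1 else 0 := by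
  decide +kernel

theorem elementary {ρ : G →* SU 7 K4 2} (h : Hyp ρ D) (hD : IsThreeTranspositionClass D)
    (hZ : Subgroup.center G = ⊥) (hk : ∀ c, ρ c = 1 ↔ c ∈ pCore 2 G)
    (hcl : ∀ d ∈ D, ∃ v : Fin 7 → K4, v ≠ 0 ∧ hermForm 7 K4 2 v v = 0 ∧
      suVal (ρ d) = eMat 2 v (0 : Fin 7 → K4) (1 : K4))
    (hex : ∀ c, vec 7 c ≠ 0 → hN 7 c c = 0 → ∃ d, Over ρ D c d) :
    IsElementaryAbelian 2 (pCore 2 G) := by
  classical
  choose e he using fun k : Fin 7 => hex (code k) (code_props k).2 (code_props k).1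
  have hgens : ∀ x ∈ gens, ∃ k, code k = x := by decide +kernel
  have hexg : ∀ x ∈ gens, ∃ d, Over ρ D x d := fun x hx => by
    obtain ⟨k, rfl⟩ := hgens x hx
    exact ⟨e k, he k⟩
  have gen : ∀ T : Subgroup G, (∀ k, ∀ d ∈ D, ρ d = ρ (e k) → d ∈ T) → T = ⊤ := fun T hT =>
    top_of_desc h hD.2.2 hcl (s := gens) (base := 5) (dir := dir) (rank := rank) (by decide) hexg desc_ok T
      fun x hx d hd => by
        obtain ⟨k, rfl⟩ := hgens x hx
        exact hT k d hd.1 (over_congr hd (he k))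
  have orth : ∀ i j : Fin 7, hN 7 (code i) (code j) = 0 → Commute (ρ (e i)) (ρ (e j)) := fun i j h0 =>
    commute_of_hN (he i) (he j) h0
  have nc : ∀ i j : Fin 7, hN 7 (code i) (code j) ≠ 0 → ¬ Commute (ρ (e i)) (ρ (e j)) := fun i j h0 =>
    not_commute_of_hN (by norm_num) (he i) (he j) (code_props i).1 (code_props j).1 (code_props i).2
      (code_props j).2 h0
  have edge : ∀ i j : Fin 7, (∀ k, hN 7 (code k) (code i) = 0 ∨ hN 7 (code k) (code j) = 0) →
      CU ρ D (ρ (e i)) (ρ (e j)) := fun i j hij =>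
    CU_of_gen h hZ gen fun k => (hij k).imp (orth k i) (orth k j)
  have c01 := edge 0 1 (by decide +kernel)
  have c12 := edge 1 2 (by decide +kernel)
  have c45 := edge 4 5 (by decide +kernel)
  have c56 := edge 5 6 (by decide +kernel)
  have n01 : CUN ρ D (code 0) (code 1) := fun x y hx hy => by
    rw [over_congr hx (he 0), over_congr hy (he 1)]; exact c01
  have tr : ∀ (w : List ℕ) (r r' : ℕ), (∀ x ∈ w, x ∈ gens) →
      walk 7 w (code 0, code 1) = some (r, r') → CUN ρ D r r' := fun w r r' hw hr =>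
    CUN.walk h w (fun s hs => hexg s (hw s hs)) hr n01
  have c23 : CU ρ D (ρ (e 2)) (ρ (e 3)) :=
    tr [85, 11, 5, 176, 85, 11] 85 176 (by decide) (by decide +kernel) _ _ (he 2) (he 3)
  have c34 : CU ρ D (ρ (e 3)) (ρ (e 4)) :=
    ((tr [85, 11, 384, 85, 1280, 384, 5, 11, 85, 176, 384, 1280] 96 832 (by decide) (by decide +kernel)).smul
      (a := 2) (b := 2) (d := code 3) (d' := code 4) (by decide) (by decide) (by decide) (by decide)
      (by decide +kernel) (by decide +kernel)) _ _ (he 3) (he 4)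
  have c24 : CU ρ D (ρ (e 2)) (ρ (e 4)) :=
    ((tr [85, 11, 384, 85, 5, 11] 85 832 (by decide) (by decide +kernel)).smul
      (a := 1) (b := 2) (d := code 2) (d' := code 4) (by decide) (by decide) (by decide) (by decide)
      (by decide +kernel) (by decide +kernel)) _ _ (he 2) (he 4)
  have hf : Over ρ D 229 (e 3 * e 2 * e 3) := by
    have := over_step h (he 3) (he 2)
    rwa [show reflN 7 (code 3) (code 2) = 229 by decide +kernel] at this
  have cf4 : CU ρ D (ρ (e 3 * e 2 * e 3)) (ρ (e 4)) :=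
    ((tr [85, 11, 176, 384, 85, 176, 85, 5, 11] 229 704 (by decide) (by decide +kernel)).smul
      (a := 1) (b := 3) (d := 229) (d' := code 4) (by decide) (by decide) (by decide) (by decide)
      (by decide +kernel) (by decide +kernel)) _ _ hf (he 4)
  have nf4 : ¬ Commute (ρ (e 3 * e 2 * e 3)) (ρ (e 4)) :=
    not_commute_of_hN (by norm_num) hf (he 4) (by decide +kernel) (code_props 4).1 (by decide +kernel)
      (code_props 4).2 (by decide +kernel)
  have cu : ∀ i j, CU ρ D (ρ (e i)) (ρ (e j)) := by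
    intro i j
    by_cases h0 : hN 7 (code i) (code j) = 0
    · exact CU_of_commute h (orth i j h0)
    fin_cases i <;> fin_cases j <;> first
      | exact absurd (by decide +kernel) h0
      | assumption
      | exact CU.symm (by assumption)
  have n : ∀ i j : Fin 7, hN 7 (code i) (code j) ≠ 0 → ∀ b ∈ U ρ D (ρ (e i)),
      psi (e i) (psi (e j) b) = b ∧ psi (e j) b ∈ U ρ D (ρ (e j)) := fun i j h0 b hb =>
    ⟨psi_psi h (he i).1 (he j).1 (nc i j h0) (cu i j) hb, psi_mem h (he i).1 (he j).1 (nc i j h0) (cu i j) hb⟩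
  let i3 : G → G := fun b => psi (e 3) b
  let i4 : G → G := fun b => psi (e 4) (i3 b)
  let i5 : G → G := fun b => psi (e 5) (i4 b)
  let i6 : G → G := fun b => psi (e 6) (i5 b)
  let i1 : G → G := fun b => psi (e 1) b
  let i0 : G → G := fun b => psi (e 0) (i1 b)
  let ι : Fin 7 → G → G := fun i => ![i0, i1, id, i3, i4, i5, i6] i
  let M : G → G := fun b => psi (e 2) (i4 b)
  have m3 : ∀ b ∈ U ρ D (ρ (e 2)), i3 b ∈ U ρ D (ρ (e 3)) := fun b hb => (n 2 3 (by decide +kernel) b hb).2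
  have m4 : ∀ b ∈ U ρ D (ρ (e 2)), i4 b ∈ U ρ D (ρ (e 4)) := fun b hb =>
    (n 3 4 (by decide +kernel) _ (m3 b hb)).2
  have m5 : ∀ b ∈ U ρ D (ρ (e 2)), i5 b ∈ U ρ D (ρ (e 5)) := fun b hb =>
    (n 4 5 (by decide +kernel) _ (m4 b hb)).2
  have m6 : ∀ b ∈ U ρ D (ρ (e 2)), i6 b ∈ U ρ D (ρ (e 6)) := fun b hb =>
    (n 5 6 (by decide +kernel) _ (m5 b hb)).2
  have m1 : ∀ b ∈ U ρ D (ρ (e 2)), i1 b ∈ U ρ D (ρ (e 1)) := fun b hb => (n 2 1 (by decide +kernel) b hb).2
  have m0 : ∀ b ∈ U ρ D (ρ (e 2)), i0 b ∈ U ρ D (ρ (e 0)) := fun b hb =>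
    (n 1 0 (by decide +kernel) _ (m1 b hb)).2
  have ι_mem : ∀ i, ∀ b ∈ U ρ D (ρ (e 2)), ι i b ∈ U ρ D (ρ (e i)) := by
    intro i b hb
    fin_cases i
    exacts [m0 b hb, m1 b hb, hb, m3 b hb, m4 b hb, m5 b hb, m6 b hb]
  have hom : ∀ i j : Fin 7, ∀ a ∈ U ρ D (ρ (e i)), ∀ b ∈ U ρ D (ρ (e i)),
      psi (e j) (a * b) = psi (e j) a * psi (e j) b := fun i j a ha b hb =>
    psi_hom h (he i).1 (he j).1 (cu i j) ha hb
  have ι_hom : ∀ i, ∀ a ∈ U ρ D (ρ (e 2)), ∀ b ∈ U ρ D (ρ (e 2)), ι i (a * b) = ι i a * ι i b := by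
    intro i a ha b hb
    have k1 : i1 (a * b) = i1 a * i1 b := hom 2 1 a ha b hb
    have k3 : i3 (a * b) = i3 a * i3 b := hom 2 3 a ha b hb
    have k4 : i4 (a * b) = i4 a * i4 b := by
      show psi (e 4) (i3 (a * b)) = _; rw [k3]; exact hom 3 4 _ (m3 a ha) _ (m3 b hb)
    have k5 : i5 (a * b) = i5 a * i5 b := by
      show psi (e 5) (i4 (a * b)) = _; rw [k4]; exact hom 4 5 _ (m4 a ha) _ (m4 b hb)
    have k6 : i6 (a * b) = i6 a * i6 b := by
      show psi (e 6) (i5 (a * b)) = _; rw [k5]; exact hom 5 6 _ (m5 a ha) _ (m5 b hb)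
    have k0 : i0 (a * b) = i0 a * i0 b := by
      show psi (e 0) (i1 (a * b)) = _; rw [k1]; exact hom 1 0 _ (m1 a ha) _ (m1 b hb)
    fin_cases i
    exacts [k0, k1, rfl, k3, k4, k5, k6]
  have ι_one : ∀ i, ι i 1 = 1 := fun i => by
    have := ι_hom i 1 (one_mem _) 1 (one_mem _)
    rwa [one_mul, left_eq_mul] at this
  have hM : Scal (U ρ D (ρ (e 2))) M :=
    { comm := fun a ha b hb => U_comm h ha hb
      sq := fun a ha => U_sq h ha
      mem := fun a ha => (n 4 2 (by decide +kernel) _ (m4 a ha)).2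
      hom := fun a ha b hb => by
        show psi (e 2) (i4 (a * b)) = _
        rw [show i4 (a * b) = i4 a * i4 b from ι_hom 4 a ha b hb]
        exact hom 4 2 _ (m4 a ha) _ (m4 b hb)
      rel := fun b hb => monodromy h (he 2).1 (he 3).1 (he 4).1 (nc 2 3 (by decide +kernel))
        (nc 3 4 (by decide +kernel)) (nc 2 4 (by decide +kernel)) c23 c34 c24 nf4 cf4 hb }
  have rule : ∀ i j, ∀ b ∈ U ρ D (ρ (e 2)),
      psi (e j) (ι i b) = ι j (sc M (hermForm 7 K4 2 (vec 7 (code i)) (vec 7 (code j))) b) := by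
    intro i j b hb
    rw [hN_spec]
    by_cases h0 : hN 7 (code i) (code j) = 0
    · rw [h0, show sc M (K4.of 0) b = 1 from rfl, ι_one,
        psi_of_commute h (he j).1 (U_fix h (he j).1 (orth i j h0).symm (ι_mem i b hb))
          (U_sq h (ι_mem i b hb))]
    have key : ∀ (i j : Fin 7) (t : ℕ), hN 7 (code i) (code j) = t →
        psi (e j) (ι i b) = ι j (sc M (K4.of t) b) →
        psi (e j) (ι i b) = ι j (sc M (K4.of (hN 7 (code i) (code j))) b) := fun i j t e1 e2 => e1 ▸ e2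
    fin_cases i <;> fin_cases j <;> first | exact absurd (by decide +kernel) h0 | skip
    · exact key _ _ 1 (by decide +kernel) (n 1 0 (by decide +kernel) _ (m1 b hb)).1
    · exact key _ _ 1 (by decide +kernel) rfl
    · exact key _ _ 1 (by decide +kernel) (n 2 1 (by decide +kernel) _ hb).1
    · exact key _ _ 1 (by decide +kernel) rfl
    · exact key _ _ 1 (by decide +kernel) rfl
    · refine key _ _ 3 (by decide +kernel) ?_
      show psi (e 4) b = i4 (M b * b)
      have hmb := hM.mem b hb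
      have hb' : M (M b * b) = b := by
        rw [hM.hom _ hmb b hb, hM.sq_map hb, mul_assoc, (hM.comm b hb _ hmb).eq, ← mul_assoc,
          hM.sq _ hmb, one_mul]
      conv_lhs => rw [← hb']
      exact (n 4 2 (by decide +kernel) _ (m4 _ (mul_mem hmb hb))).1
    · exact key _ _ 1 (by decide +kernel) (n 2 3 (by decide +kernel) _ hb).1
    · exact key _ _ 1 (by decide +kernel) rfl
    · exact key _ _ 2 (by decide +kernel) rfl
    · exact key _ _ 1 (by decide +kernel) (n 3 4 (by decide +kernel) _ (m3 b hb)).1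
    · exact key _ _ 1 (by decide +kernel) rfl
    · exact key _ _ 1 (by decide +kernel) (n 4 5 (by decide +kernel) _ (m4 b hb)).1
    · exact key _ _ 1 (by decide +kernel) rfl
    · exact key _ _ 1 (by decide +kernel) (n 5 6 (by decide +kernel) _ (m5 b hb)).1
  have hiso : ∀ k, hermForm 7 K4 2 (vec 7 (code k)) (vec 7 (code k)) = 0 := fun k => by
    rw [hN_spec, (code_props k).1]; rfl
  exact Frame.elementary
    (i0 := 2)
    { v := fun k => vec 7 (code k)
      iso := hiso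
      e := e
      mem := fun k => (he k).1
      img := fun k => suVal_ext (he k).2
      coef := Matrix.mulVecLin coefMat
      coef_sum := fun y => by
        funext r
        simp only [Finset.sum_apply, Pi.smul_apply, smul_eq_mul, Matrix.mulVecLin_apply, Matrix.mulVec,
          dotProduct, Finset.sum_mul]
        rw [Finset.sum_comm]
        simp only [mul_right_comm _ (y _), ← Finset.sum_mul, coef_left, ite_mul, one_mul, zero_mul,
          Finset.sum_ite_eq, Finset.mem_univ, if_true]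
      coef_v := fun j => funext fun i => by
        rw [Matrix.mulVecLin_apply]
        exact (coef_code j i).trans (Pi.single_apply j (1 : K4) i).symm
      gen := gen
      ι := ι
      M := M
      cu := cu
      scal := hM
      ι_mem := ι_mem
      ι_hom := ι_hom
      ι_base := fun _ => rfl
      rule := rule } h hD hZ hk

end Seven

end Cfsg.Agent.Fus.SUTwoRadical
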