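import Cfsg.Agent.Lib.Fus.SUTwoRadical.FiveTable
import Cfsg.Agent.Lib.Fus.SUTwoRadical.Seven

/-! One member over each point: a conjugation-closed family generated by five members. -/

set_option autoImplicit false
set_option linter.unusedSectionVars false

namespace Cfsg.Agent.Fus.SUTwoRadical.Five

open Matrix Cfsg Cfsg.Agent.Classical Cfsg.Agent.Classical.PSUAut Cfsg.Agent.Spor Cfsg.Agent.Spor.UnitTwo
open Cfsg.Agent.Spor.USixTwo

/-- The code of a point. -/
def pt (p : ℕ) : ℕ := pts.getD p 0

/-- The word of a point. -/
def word (p : ℕ) : List ℕ := words.getD p []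

/-- The action. -/
def act (j p : ℕ) : ℕ := (acts.getD j []).getD p 0

/-- The code of a generator. -/
def gen (j : ℕ) : ℕ := gens.getD j 0

/-- The check on a point. -/
def ptOk (p : ℕ) : Bool :=
  decide (hN 5 (pt p) (pt p) = 0) && decide (vec 5 (pt p) ≠ 0) && decide ((word p).reverse = word p) &&
    (word p).all (fun j => decide (j < 5)) &&
    if p < 5 then decide (word p = [p]) && decide (pt p = gen p) else
      let w := parents.getD (p - 5) (0, 0, 0)
      decide (w.1 < 5) && decide (w.2.1 < p) && decide (0 < w.2.2) && decide (w.2.2 < 4) &&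
        decide (word p = w.1 :: word w.2.1 ++ [w.1]) &&
        decide (smN 5 w.2.2 (pt p) = reflN 5 (gen w.1) (pt w.2.1))

/-- The check on the action. -/
def actOk (j : ℕ) : Bool :=
  (List.range 165).all fun p => decide (act j p < 165) && decide (act j (act j p) = p)

/-- A step along a known edge. -/
def stepK (m : ℕ) (o : Option ℕ) (g : ℕ) : Option ℕ :=
  match o with
  | none => none
  | some q => if g < 5 ∧ q < 165 ∧ m.testBit (g * 165 + q) = true then some (act g q) else none

/-- An edge is clear from the start. -/
def clear (k : ℕ) : Bool :=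
  (decide (act (k / 165) (k % 165) = k % 165) && decide (hN 5 (gen (k / 165)) (pt (k % 165)) = 0)) ||
    decide (word (act (k / 165) (k % 165)) = k / 165 :: word (k % 165) ++ [k / 165]) ||
    decide (word (k % 165) = k / 165 :: word (act (k / 165) (k % 165)) ++ [k / 165])

/-- The edges known from the start. -/
def mask0 : ℕ := (List.range 825).foldl (fun m k => if clear k = true then m ||| 2 ^ k else m) 0

/-- Close one loop. -/
def addLoop (o : Option ℕ) (c : ℕ × ℕ × ℕ) : Option ℕ :=
  match o with
  | none => none
  | some m =>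
    let x := c.1
    let p := c.2.1
    let perp := decide (hN 5 (pt x) (pt p) = 0)
    let w := if perp then word x else word x ++ word p
    let fin := if perp then p else x
    match w[c.2.2]?, (w.take c.2.2).foldl (stepK m) (some p),
        (w.drop (c.2.2 + 1)).reverse.foldl (stepK m) (some fin) with
    | some g, some q, some r =>
      if x < 165 ∧ p < 165 ∧ g < 5 ∧ q < 165 ∧ r < 165 ∧ act g q = r then
        some (m ||| 2 ^ (g * 165 + q) ||| 2 ^ (g * 165 + r)) else none
    | _, _, _ => none

theorem pts_ok : ((List.range 165).all ptOk) = true := by decide +kernel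

theorem acts_ok : ((List.range 5).all actOk) = true := by decide +kernel

/-- The resulting mask. -/
def final : Option ℕ := certs.foldl addLoop (some mask0)

theorem final_ok : (match final with
    | some m => (List.range 825).all fun k => m.testBit k
    | none => false) = true := by decide +kernel

theorem distinct_ok : ((List.range 5).all fun j => (List.range 165).all fun q =>
    decide (q = j) || [1, 2, 3].all fun a => decide (vec 5 (smN 5 a (gen j)) ≠ vec 5 (pt q))) = true := by
  decide +kernel

variable {G : Type*} [Group G] [Finite G] {D : Set G} {ρ : G →* SU 5 K4 2} (e : ℕ → G)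

/-- Conjugate along a word. -/
def conjW (l : List ℕ) (X : G) : G := l.foldl (fun X g => e g * X * e g) X

/-- The member over a point. -/
def lift (p : ℕ) : G := ((word p).map e).prod

theorem conjW_append (l l' : List ℕ) (X : G) : conjW e (l ++ l') X = conjW e l' (conjW e l X) :=
  List.foldl_append

theorem conjW_prod : ∀ (l : List ℕ) (X : G), conjW e l X = (l.reverse.map e).prod * X * (l.map e).prod := by
  intro l
  induction l with
  | nil => simp [conjW]
  | cons g l ih =>
    intro X
    show conjW e l (e g * X * e g) = _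
    rw [ih]
    simp [List.prod_append, mul_assoc]

variable {e}

theorem pt_spec {p : ℕ} (hp : p < 165) : ptOk p = true :=
  List.all_eq_true.1 pts_ok p (List.mem_range.2 hp)

theorem act_spec {j p : ℕ} (hj : j < 5) (hp : p < 165) : act j p < 165 ∧ act j (act j p) = p := by
  have h1 := List.all_eq_true.1 acts_ok j (List.mem_range.2 hj)
  unfold actOk at h1
  have h2 := List.all_eq_true.1 h1 p (List.mem_range.2 hp)
  simpa only [Bool.and_eq_true, decide_eq_true_eq] using h2

theorem word_palin {p : ℕ} (hp : p < 165) : (word p).reverse = word p := by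
  have := pt_spec hp
  simp only [ptOk, Bool.and_eq_true, decide_eq_true_eq] at this
  exact this.1.1.2

theorem word_lt {p : ℕ} (hp : p < 165) : ∀ g ∈ word p, g < 5 := by
  have := pt_spec hp
  simp only [ptOk, Bool.and_eq_true, decide_eq_true_eq, List.all_eq_true] at this
  exact this.1.2

variable (h : Hyp ρ D) (he : ∀ j < 5, Over ρ D (gen j) (e j))

include h he

theorem conjW_inv {l : List ℕ} (hl : ∀ g ∈ l, g < 5) (X : G) : conjW e l.reverse (conjW e l X) = X := by
  induction l generalizing X with
  | nil => rfl
  | cons g l ih =>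
    rw [List.reverse_cons, conjW_append]
    show conjW e [g] (conjW e l.reverse (conjW e l (e g * X * e g))) = X
    rw [ih fun x hx => hl x (List.mem_cons_of_mem g hx)]
    show e g * (e g * X * e g) * e g = X
    have hg := he g (hl g List.mem_cons_self)
    simp only [mul_assoc, ThreeTrans.mul_self_mul h.three hg.1, ThreeTrans.mul_self h.three hg.1, mul_one]

theorem lift_over : ∀ p, p < 165 → Over ρ D (pt p) (lift e p) := by
  intro p
  induction p using Nat.strong_induction_on with
  | h p ih =>
    intro hp
    have := pt_spec hp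
    unfold ptOk at this
    by_cases h5 : p < 5
    · simp only [h5, if_true, Bool.and_eq_true, decide_eq_true_eq] at this
      rw [lift, this.2.1, this.2.2]
      simpa using he p h5
    · simp only [h5, if_false, Bool.and_eq_true, decide_eq_true_eq] at this
      obtain ⟨-, ⟨⟨⟨⟨h1, h2⟩, h3⟩, h4'⟩, h5'⟩, h6⟩ := this
      have hq := ih _ h2 (h2.trans hp)
      have hs := over_step h (he _ h1) hq
      have hl : lift e p = e (parents.getD (p - 5) (0, 0, 0)).1 * lift e (parents.getD (p - 5) (0, 0, 0)).2.1 *
          e (parents.getD (p - 5) (0, 0, 0)).1 := by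
        rw [lift, lift, h5']
        simp [mul_assoc]
      rw [hl]
      exact over_smul h3 h4' h6 hs

/-- An edge: conjugation sends member to member. -/
def Edge (e : ℕ → G) (k : ℕ) : Prop := e (k / 165) * lift e (k % 165) * e (k / 165) = lift e (act (k / 165) (k % 165))

theorem edge_symm {g p : ℕ} (hg : g < 5) (hp : p < 165) (k : e g * lift e p * e g = lift e (act g p)) :
    e g * lift e (act g p) * e g = lift e (act g (act g p)) := by
  rw [(act_spec hg hp).2, ← k]
  simp only [mul_assoc, ThreeTrans.mul_self_mul h.three (he g hg).1, ThreeTrans.mul_self h.three (he g hg).1,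
    mul_one]

theorem clear_edge {k : ℕ} (hk : k < 825) (hc : clear k = true) : Edge e k := by
  have hj : k / 165 < 5 := by omega
  have hp : k % 165 < 165 := Nat.mod_lt _ (by norm_num)
  obtain ⟨hq, hinv⟩ := act_spec hj hp
  simp only [clear, Bool.or_eq_true, Bool.and_eq_true, decide_eq_true_eq] at hc
  show e _ * lift e _ * e _ = lift e _
  rcases hc with (⟨h1, h2⟩ | h1) | h1
  · have hL := lift_over h he _ hp
    have hcm := commute_image h (he _ hj).1 hL.1 (commute_of_hN (he _ hj) hL h2)
    rw [h1, hcm.eq, mul_assoc, ThreeTrans.mul_self h.three (he _ hj).1, mul_one]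
  · simp [lift, h1, mul_assoc]
  · have := edge_symm h he hj hq (by rw [hinv]; simp [lift, h1, mul_assoc])
    rwa [hinv] at this

/-- All recorded edges are true. -/
def Sound (e : ℕ → G) (m : ℕ) : Prop := ∀ k, m.testBit k = true → k < 825 ∧ Edge e k

theorem sound_add {m g q : ℕ} (hm : Sound e m) (hg : g < 5) (hq : q < 165)
    (hE : e g * lift e q * e g = lift e (act g q)) : Sound e (m ||| 2 ^ (g * 165 + q)) := by
  intro k hk
  rw [Nat.testBit_or, Bool.or_eq_true, Nat.testBit_two_pow, decide_eq_true_eq] at hk
  rcases hk with hk | rfl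
  · exact hm k hk
  · refine ⟨by omega, ?_⟩
    show e _ * lift e _ * e _ = lift e _
    rwa [show (g * 165 + q) / 165 = g by omega, show (g * 165 + q) % 165 = q by omega]

theorem sound_mask0 : Sound e mask0 := by
  suffices hs : ∀ (l : List ℕ), (∀ k ∈ l, k < 825) → ∀ m, Sound e m →
      Sound e (l.foldl (fun m k => if clear k = true then m ||| 2 ^ k else m) m) by
    refine hs _ (fun k hk => List.mem_range.1 hk) 0 fun k hk => ?_
    simp at hk
  intro l
  induction l with
  | nil => intro _ m hm; exact hm
  | cons k l ih =>
    intro hl m hm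
    refine ih (fun x hx => hl x (List.mem_cons_of_mem k hx)) _ ?_
    show Sound e (if clear k = true then m ||| 2 ^ k else m)
    split_ifs with hc
    · have hk := hl k List.mem_cons_self
      have he' := clear_edge h he hk hc
      have hs := sound_add h he hm (g := k / 165) (q := k % 165) (by omega) (Nat.mod_lt _ (by norm_num)) he'
      rwa [show k / 165 * 165 + k % 165 = k from Nat.div_add_mod' k 165] at hs
    · exact hm

theorem walk_spec {m : ℕ} (hm : Sound e m) : ∀ (l : List ℕ) (s r : ℕ),
    l.foldl (stepK m) (some s) = some r → (∀ g ∈ l, g < 5) ∧ conjW e l (lift e s) = lift e r := by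
  intro l
  induction l with
  | nil =>
    intro s r hr
    simp at hr
    subst hr
    exact ⟨by simp, rfl⟩
  | cons g l ih =>
    intro s r hr
    have hnone : ∀ l : List ℕ, l.foldl (stepK m) none = none := by
      intro l; induction l with
      | nil => rfl
      | cons a l i => exact i
    rw [List.foldl_cons] at hr
    simp only [stepK] at hr
    split_ifs at hr with hc
    · obtain ⟨hg, hs, hb⟩ := hc
      obtain ⟨hk, hE⟩ := hm _ hb
      change e _ * lift e _ * e _ = lift e _ at hE
      rw [show (g * 165 + s) / 165 = g by omega, show (g * 165 + s) % 165 = s by omega] at hE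
      obtain ⟨i1, i2⟩ := ih _ _ hr
      refine ⟨fun x hx => ?_, ?_⟩
      · rcases List.mem_cons.1 hx with rfl | hx
        exacts [hg, i1 x hx]
      · show conjW e l (e g * lift e s * e g) = _
        rw [hE, i2]
    · rw [show List.foldl (stepK m) none l = none from hnone l] at hr
      cases hr

theorem loop_word {x p : ℕ} (hx : x < 165) (hp : p < 165) :
    (hN 5 (pt x) (pt p) = 0 → conjW e (word x) (lift e p) = lift e p) ∧
    (hN 5 (pt x) (pt p) ≠ 0 → conjW e (word x ++ word p) (lift e p) = lift e x) := by
  have hX := lift_over h he x hx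
  have hP := lift_over h he p hp
  have key : ∀ {y : ℕ}, y < 165 → ∀ Z, conjW e (word y) Z = lift e y * Z * lift e y := fun {y} hy Z => by
    rw [conjW_prod, word_palin hy]; rfl
  have sx := ThreeTrans.mul_self h.three hX.1
  have sp := ThreeTrans.mul_self h.three hP.1
  constructor
  · intro h0
    have hc := commute_image h hX.1 hP.1 (commute_of_hN hX hP h0)
    rw [key hx, hc.eq, mul_assoc, sx, mul_one]
  · intro h0
    have iso : ∀ {y : ℕ}, y < 165 → hN 5 (pt y) (pt y) = 0 ∧ vec 5 (pt y) ≠ 0 := fun {y} hy => by
      have := pt_spec hy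
      simp only [ptOk, Bool.and_eq_true, decide_eq_true_eq] at this
      exact ⟨this.1.1.1.1, this.1.1.1.2⟩
    have hn : ¬ Commute (lift e x) (lift e p) := fun k => not_commute_of_hN (by norm_num) hX hP (iso hx).1
      (iso hp).1 (iso hx).2 (iso hp).2 h0 (k.map ρ)
    rw [conjW_append, key hx, key hp, ThreeTrans.braid h.three hX.1 hP.1 hn]
    simp only [mul_assoc, ThreeTrans.mul_self_mul h.three hP.1, sp, mul_one]

theorem sound_addLoop {m : ℕ} (hm : Sound e m) {c : ℕ × ℕ × ℕ} {m' : ℕ} (hc : addLoop (some m) c = some m') :
    Sound e m' := by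
  obtain ⟨x, p, i⟩ := c
  obtain ⟨w, hw⟩ : ∃ w, w = (if decide (hN 5 (pt x) (pt p) = 0) = true then word x else word x ++ word p) :=
    ⟨_, rfl⟩
  obtain ⟨fin, hfin⟩ : ∃ fin, fin = (if decide (hN 5 (pt x) (pt p) = 0) = true then p else x) := ⟨_, rfl⟩
  simp only [addLoop, ← hw, ← hfin] at hc
  split at hc
  case _ g q r hg hl hr =>
    split_ifs at hc with hcond
    obtain ⟨hx, hp, hg5, hq, hr5, hact⟩ := hcond
    obtain ⟨-, e1⟩ := walk_spec h he hm _ _ _ hl
    obtain ⟨hlt, e2⟩ := walk_spec h he hm _ _ _ hr
    have hall : ∀ y ∈ w, y < 5 := by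
      intro y hy
      rw [hw] at hy
      split_ifs at hy
      · exact word_lt hx y hy
      · rcases List.mem_append.1 hy with hy | hy
        exacts [word_lt hx y hy, word_lt hp y hy]
    have htot : conjW e w (lift e p) = lift e fin := by
      rw [hw, hfin]
      by_cases h0 : hN 5 (pt x) (pt p) = 0
      · simp only [h0, decide_true, if_true]; exact (loop_word h he hx hp).1 h0
      · simp only [h0, decide_false, Bool.false_eq_true, if_false]; exact (loop_word h he hx hp).2 h0
    obtain ⟨hi, hgi⟩ := List.getElem?_eq_some_iff.1 hg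
    have hsplit : w = w.take i ++ g :: w.drop (i + 1) := by
      rw [← hgi, List.cons_getElem_drop_succ (h := hi), List.take_append_drop]
    rw [hsplit, conjW_append, e1] at htot
    change conjW e (w.drop (i + 1)) (e g * lift e q * e g) = _ at htot
    have hE : e g * lift e q * e g = lift e r := by
      rw [← e2, ← htot, conjW_inv h he]
      exact fun y hy => hall y (List.mem_of_mem_drop hy)
    rw [← hact] at hE hc
    injection hc with hc
    subst hc
    exact sound_add h he (sound_add h he hm hg5 hq hE) hg5 (act_spec hg5 hq).1 (edge_symm h he hg5 hq hE)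
  case _ => simp at hc

theorem all_edges {j p : ℕ} (hj : j < 5) (hp : p < 165) : e j * lift e p * e j = lift e (act j p) := by
  suffices hs : ∀ (l : List (ℕ × ℕ × ℕ)) (m m' : ℕ), Sound e m → l.foldl addLoop (some m) = some m' →
      Sound e m' by
    have hf := final_ok
    split at hf
    case _ m hm =>
      have hb := List.all_eq_true.1 hf (j * 165 + p) (List.mem_range.2 (by omega))
      obtain ⟨-, hE⟩ := hs certs mask0 m (sound_mask0 h he) hm _ hb
      change e _ * lift e _ * e _ = lift e _ at hE
      rwa [show (j * 165 + p) / 165 = j by omega, show (j * 165 + p) % 165 = p by omega] at hE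
    case _ => cases hf
  intro l
  induction l with
  | nil => intro m m' hm e'; simp at e'; exact e' ▸ hm
  | cons c l ih =>
    intro m m' hm e'
    rw [List.foldl_cons] at e'
    cases hc : addLoop (some m) c with
    | none =>
      exfalso
      rw [hc] at e'
      have hn : ∀ l : List (ℕ × ℕ × ℕ), l.foldl addLoop none = none := by
        intro l; induction l with
        | nil => rfl
        | cons a l i => exact i
      rw [hn] at e'; cases e'
    | some m1 =>
      rw [hc] at e'
      exact ih m1 m' (sound_addLoop h he hm hc) e'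

theorem closure_inter (hab : ∀ a b : G, ρ a = 1 → ρ b = 1 → Commute a b) (hZ : Subgroup.center G = ⊥)
    (hgen : ∀ T : Subgroup G, (∀ j < 5, ∀ d ∈ D, ρ d = ρ (e j) → d ∈ T) → T = ⊤)
    {c : G} (hcK : c ∈ Subgroup.closure (e '' Set.Iio 5)) (hc : ρ c = 1) : c = 1 := by
  have hperm : ∀ g ∈ Subgroup.closure (e '' Set.Iio 5),
      (∀ p < 165, ∃ q < 165, g * lift e p * g⁻¹ = lift e q) ∧
        ∀ p < 165, ∃ q < 165, g⁻¹ * lift e p * g = lift e q := by
    intro g hg
    induction hg using Subgroup.closure_induction with
    | mem x hx =>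
      obtain ⟨j, hj, rfl⟩ := hx
      rw [ThreeTrans.inv_eq h.three (he j hj).1]
      exact ⟨fun p hp => ⟨_, (act_spec hj hp).1, all_edges h he hj hp⟩,
        fun p hp => ⟨_, (act_spec hj hp).1, all_edges h he hj hp⟩⟩
    | one => exact ⟨fun p hp => ⟨p, hp, by simp⟩, fun p hp => ⟨p, hp, by simp⟩⟩
    | mul a b _ _ ha hb =>
      constructor
      · intro p hp
        obtain ⟨q, hq, e1⟩ := hb.1 p hp
        obtain ⟨r, hr, e2⟩ := ha.1 q hq
        exact ⟨r, hr, by rw [← e2, ← e1]; simp [mul_assoc]⟩
      · intro p hp
        obtain ⟨q, hq, e1⟩ := ha.2 p hp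
        obtain ⟨r, hr, e2⟩ := hb.2 q hq
        exact ⟨r, hr, by rw [← e2, ← e1]; simp [mul_assoc]⟩
    | inv a _ ha => exact ⟨fun p hp => by simpa using ha.2 p hp, fun p hp => by simpa using ha.1 p hp⟩
  have hfix : ∀ j < 5, Commute c (e j) := by
    intro j hj
    have hwj : lift e j = e j := by
      have := pt_spec (show j < 165 by omega)
      simp only [ptOk, hj, if_true, Bool.and_eq_true, decide_eq_true_eq] at this
      rw [lift, this.2.1]; simp
    obtain ⟨q, hq, e1⟩ := (hperm c hcK).1 j (by omega)
    rw [hwj] at e1
    by_cases hqj : q = j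
    · subst hqj
      rw [hwj] at e1
      exact mul_inv_eq_iff_eq_mul.1 e1
    · exfalso
      have hq' := lift_over h he q hq
      have hej := he j hj
      have him : ρ (lift e q) = ρ (e j) := by rw [← e1]; simp [hc]
      have hpt := pt_spec hq
      simp only [ptOk, Bool.and_eq_true, decide_eq_true_eq] at hpt
      have hgj := pt_spec (show j < 165 by omega)
      simp only [ptOk, hj, if_true, Bool.and_eq_true, decide_eq_true_eq] at hgj
      rw [hgj.2.2] at hgj
      have hu : hermForm 5 K4 2 (vec 5 (pt q)) (vec 5 (pt q)) = 0 := by rw [hN_spec, hpt.1.1.1.1]; rfl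
      have hv : hermForm 5 K4 2 (vec 5 (gen j)) (vec 5 (gen j)) = 0 := by rw [hN_spec, hgj.1.1.1.1]; rfl
      have e2 : ρ (lift e q) = tv h4 hu := suVal_ext hq'.2
      have e3 : ρ (e j) = tv h4 hv := suVal_ext hej.2
      rw [e2, e3] at him
      obtain ⟨a, ha0, ha⟩ := Block.FischerTypes.U6.root_eq h4 (by norm_num : 1 ≤ 5) hu hv hpt.1.1.1.2
        (congrArg _ him)
      have hd := List.all_eq_true.1 (List.all_eq_true.1 distinct_ok j (List.mem_range.2 hj)) q (List.mem_range.2 hq)
      simp only [decide_eq_false hqj, Bool.false_or, List.all_eq_true, decide_eq_true_eq] at hd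
      rcases cases4 a with rfl | rfl | rfl | rfl
      · exact ha0 rfl
      · exact hd 1 (by simp) (by rw [smN_spec (by norm_num), ha]; rfl)
      · exact hd 2 (by simp) (by rw [smN_spec (by norm_num), ha])
      · exact hd 3 (by simp) (by rw [smN_spec (by norm_num), ha])
  have htop : Subgroup.centralizer {c} = ⊤ := hgen _ fun j hj d hd hdj => by
    rw [Subgroup.mem_centralizer_singleton_iff]
    have hu : Commute (d * e j) c := hab _ _ (by rw [map_mul, hdj, ← map_mul,
      ThreeTrans.mul_self h.three (he j hj).1, map_one]) hc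
    have := hu.mul_left (hfix j hj).symm
    rw [mul_assoc, ThreeTrans.mul_self h.three (he j hj).1, mul_one] at this
    exact this.eq
  have hcen : c ∈ Subgroup.center G := Subgroup.mem_center_iff.2 fun g =>
    Subgroup.mem_centralizer_singleton_iff.1 (htop ▸ Subgroup.mem_top g)
  rwa [hZ, Subgroup.mem_bot] at hcen

end Cfsg.Agent.Fus.SUTwoRadical.Five
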