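import Cfsg.Agent.Lib.Fus.SUTwoRadical.Setup

/-! An explicit natural module inside the radical, and the resulting triviality of the action of the radical. -/

set_option autoImplicit false
set_option linter.unusedSectionVars false
set_option linter.style.haveILetI false

namespace Cfsg.Agent.Fus.SUTwoRadical

open Matrix Cfsg Cfsg.Agent.Classical Cfsg.Agent.Classical.PSUAut Cfsg.Agent.Spor Cfsg.Agent.Spor.UnitTwo
open Cfsg.Agent.Spor.USixTwo Cfsg.Agent.Block.FischerTypes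
open scoped IsMulCommutative

variable {G : Type*} [Group G]

/-- Scalars of four elements from the monodromy. -/
def sc (M : G → G) (c : K4) (b : G) : G :=
  if c = 0 then 1 else if c = 1 then b else if c = K4.of 2 then M b else M b * b

/-- What a monodromy has to satisfy. -/
structure Scal (A : Subgroup G) (M : G → G) : Prop where
  comm : ∀ a ∈ A, ∀ b ∈ A, Commute a b
  sq : ∀ a ∈ A, a * a = 1
  mem : ∀ a ∈ A, M a ∈ A
  hom : ∀ a ∈ A, ∀ b ∈ A, M (a * b) = M a * M b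
  rel : ∀ a ∈ A, M (M a) * a = M a

theorem cases4 (c : K4) : c = 0 ∨ c = 1 ∨ c = K4.of 2 ∨ c = K4.of 3 := by revert c; decide +kernel

variable {A : Subgroup G} {M : G → G}

theorem Scal.one (hM : Scal A M) : M 1 = 1 := by
  have := hM.hom 1 (one_mem A) 1 (one_mem A)
  rwa [one_mul, left_eq_mul] at this

theorem Scal.sq_map (hM : Scal A M) {b : G} (hb : b ∈ A) : M (M b) = M b * b := by
  conv_rhs => rw [← hM.rel b hb, mul_assoc, hM.sq b hb, mul_one]

theorem sc_zero (b : G) : sc M 0 b = 1 := rfl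
theorem sc_one (b : G) : sc M 1 b = b := rfl
theorem sc_w (b : G) : sc M (K4.of 2) b = M b := rfl
theorem sc_w2 (b : G) : sc M (K4.of 3) b = M b * b := rfl

theorem sc_mem (hM : Scal A M) (c : K4) {b : G} (hb : b ∈ A) : sc M c b ∈ A := by
  rcases cases4 c with rfl | rfl | rfl | rfl
  · exact one_mem A
  · exact hb
  · exact hM.mem b hb
  · exact mul_mem (hM.mem b hb) hb

theorem sc_add (hM : Scal A M) (c d : K4) {b : G} (hb : b ∈ A) :
    sc M (c + d) b = sc M c b * sc M d b := by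
  have h1 := hM.sq b hb
  have h2 := hM.sq _ (hM.mem b hb)
  have h3 : b * M b = M b * b := (hM.comm b hb _ (hM.mem b hb)).eq
  rcases cases4 c with rfl | rfl | rfl | rfl <;> rcases cases4 d with rfl | rfl | rfl | rfl
  · exact (one_mul _).symm
  · exact (one_mul _).symm
  · exact (one_mul _).symm
  · exact (one_mul _).symm
  · exact (mul_one _).symm
  · rw [show (1 : K4) + 1 = 0 by decide, sc_zero, sc_one, h1]
  · rw [show (1 : K4) + K4.of 2 = K4.of 3 by decide, sc_w2, sc_one, sc_w, h3]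
  · rw [show (1 : K4) + K4.of 3 = K4.of 2 by decide, sc_w, sc_one, sc_w2, ← mul_assoc, h3, mul_assoc, h1,
      mul_one]
  · exact (mul_one _).symm
  · rw [show K4.of 2 + (1 : K4) = K4.of 3 by decide, sc_w2, sc_w, sc_one]
  · rw [show K4.of 2 + K4.of 2 = 0 by decide, sc_zero, sc_w, h2]
  · rw [show K4.of 2 + K4.of 3 = 1 by decide, sc_one, sc_w, sc_w2, ← mul_assoc, h2, one_mul]
  · exact (mul_one _).symm
  · rw [show K4.of 3 + (1 : K4) = K4.of 2 by decide, sc_w, sc_w2, sc_one, mul_assoc, h1, mul_one]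
  · rw [show K4.of 3 + K4.of 2 = 1 by decide, sc_one, sc_w, sc_w2, mul_assoc, h3, ← mul_assoc, h2, one_mul]
  · rw [show K4.of 3 + K4.of 3 = 0 by decide, sc_zero, sc_w2, hM.sq _ (mul_mem (hM.mem b hb) hb)]

theorem sc_hom (hM : Scal A M) (c : K4) {a b : G} (ha : a ∈ A) (hb : b ∈ A) :
    sc M c (a * b) = sc M c a * sc M c b := by
  rcases cases4 c with rfl | rfl | rfl | rfl
  · exact (one_mul _).symm
  · rfl
  · exact hM.hom a ha b hb
  · rw [sc_w2, sc_w2, sc_w2, hM.hom a ha b hb]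
    have := (hM.comm a ha _ (hM.mem b hb)).eq
    simp only [mul_assoc]
    rw [← mul_assoc a (M b), this, mul_assoc]

theorem sc_mul (hM : Scal A M) (c d : K4) {b : G} (hb : b ∈ A) :
    sc M (c * d) b = sc M c (sc M d b) := by
  rcases cases4 c with rfl | rfl | rfl | rfl
  · rw [zero_mul]; rfl
  · rw [one_mul]; rfl
  all_goals rcases cases4 d with rfl | rfl | rfl | rfl
  · rw [mul_zero, sc_w, sc_zero, hM.one]
  · rw [mul_one]; rfl
  · rw [show K4.of 2 * K4.of 2 = K4.of 3 by decide, sc_w2, sc_w, sc_w, hM.sq_map hb]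
  · rw [show K4.of 2 * K4.of 3 = 1 by decide, sc_one, sc_w, sc_w2, hM.hom _ (hM.mem b hb) b hb,
      hM.sq_map hb, mul_assoc, (hM.comm b hb _ (hM.mem b hb)).eq, ← mul_assoc, hM.sq _ (hM.mem b hb), one_mul]
  · rw [mul_zero, sc_w2, sc_zero, hM.one, one_mul]
  · rw [mul_one]; rfl
  · rw [show K4.of 3 * K4.of 2 = 1 by decide, sc_one, sc_w, sc_w2, hM.sq_map hb,
      (hM.comm _ (hM.mem b hb) b hb).eq, mul_assoc, hM.sq _ (hM.mem b hb), mul_one]
  · rw [show K4.of 3 * K4.of 3 = K4.of 2 by decide, sc_w, sc_w2, sc_w2, hM.hom _ (hM.mem b hb) b hb,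
      hM.sq_map hb]
    have e := (hM.comm b hb _ (hM.mem b hb)).eq
    have h1 := hM.sq b hb
    have h2 := hM.sq _ (hM.mem b hb)
    rw [show M b * b * M b = b by rw [← e, mul_assoc, h2, mul_one], ← mul_assoc b, e, mul_assoc, h1, mul_one]

variable [Finite G] {D : Set G} {n : ℕ}

/-- The data of a module. -/
structure Frame (ρ : G →* SU n K4 2) (D : Set G) (i0 : Fin n) where
  v : Fin n → Fin n → K4
  iso : ∀ k, hermForm n K4 2 (v k) (v k) = 0
  e : Fin n → G
  mem : ∀ k, e k ∈ D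
  img : ∀ k, ρ (e k) = tv h4 (iso k)
  coef : (Fin n → K4) →ₗ[K4] (Fin n → K4)
  coef_sum : ∀ y, ∑ i, coef y i • v i = y
  coef_v : ∀ j, coef (v j) = Pi.single j 1
  gen : ∀ T : Subgroup G, (∀ k, ∀ d ∈ D, ρ d = ρ (e k) → d ∈ T) → T = ⊤
  ι : Fin n → G → G
  M : G → G
  cu : ∀ i j, CU ρ D (ρ (e i)) (ρ (e j))
  scal : Scal (U ρ D (ρ (e i0))) M
  ι_mem : ∀ i, ∀ b ∈ U ρ D (ρ (e i0)), ι i b ∈ U ρ D (ρ (e i))
  ι_hom : ∀ i, ∀ a ∈ U ρ D (ρ (e i0)), ∀ b ∈ U ρ D (ρ (e i0)), ι i (a * b) = ι i a * ι i b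
  ι_base : ∀ b, ι i0 b = b
  rule : ∀ i j, ∀ b ∈ U ρ D (ρ (e i0)),
    psi (e j) (ι i b) = ι j (sc M (hermForm n K4 2 (v i) (v j)) b)

variable {ρ : G →* SU n K4 2} {i0 : Fin n}

theorem Frame.radical_fix (Φ : Frame ρ D i0) (h : Hyp ρ D) {c : G} (hc : ρ c = 1) {a : G}
    (ha : a ∈ U ρ D (ρ (Φ.e i0))) : Commute c a := by
  classical
  set P : Subgroup G := Subgroup.closure (⋃ k, (U ρ D (ρ (Φ.e k)) : Set G)) with hP
  haveI : IsMulCommutative P := Subgroup.isMulCommutative_closure (k := ⋃ k, (U ρ D (ρ (Φ.e k)) : Set G))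
    fun x hx y hy => by
      obtain ⟨i, hi⟩ := Set.mem_iUnion.1 hx
      obtain ⟨j, hj⟩ := Set.mem_iUnion.1 hy
      exact (Φ.cu i j x hi y hj).eq
  have hPk : ∀ k, ∀ x ∈ U ρ D (ρ (Φ.e k)), x ∈ P := fun k x hx =>
    Subgroup.subset_closure (Set.mem_iUnion.2 ⟨k, hx⟩)
  let F : Fin n → K4 → P := fun i z => ⟨Φ.ι i (sc Φ.M z a),
    hPk i _ (Φ.ι_mem i _ (sc_mem Φ.scal z ha))⟩
  have hFadd : ∀ i x y, F i (x + y) = F i x * F i y := fun i x y => Subtype.ext (by
    show Φ.ι i (sc Φ.M (x + y) a) = Φ.ι i (sc Φ.M x a) * Φ.ι i (sc Φ.M y a)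
    rw [sc_add Φ.scal x y ha, Φ.ι_hom i _ (sc_mem Φ.scal x ha) _ (sc_mem Φ.scal y ha)])
  have hF0 : ∀ i, F i 0 = 1 := fun i => by
    have := hFadd i 0 0
    rwa [add_zero, left_eq_mul] at this
  let L : (Fin n → K4) → G := fun y => ((∏ i, F i (Φ.coef y i) : P) : G)
  have hconj : ∀ j (s : Finset (Fin n)) (y : Fin n → K4), Φ.e j * ((∏ i ∈ s, F i (y i) : P) : G) * Φ.e j =
      ((∏ i ∈ s, F i (y i)) * F j (∑ i ∈ s, y i * hermForm n K4 2 (Φ.v i) (Φ.v j)) : P) := by
    intro j s y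
    induction s using Finset.induction_on with
    | empty =>
      rw [Finset.prod_empty, Finset.sum_empty, hF0, one_mul, Subgroup.coe_one, mul_one,
        ThreeTrans.mul_self h.three (Φ.mem j)]
    | insert i s hi ih =>
      have hz := sc_mem Φ.scal (y i) ha
      have h1 : Φ.e j * (F i (y i) : G) * Φ.e j =
          ((F i (y i) * F j (y i * hermForm n K4 2 (Φ.v i) (Φ.v j)) : P) : G) := by
        rw [Subgroup.coe_mul, conj_eq_psi (Φ.e j) (U_sq h (Φ.ι_mem i _ hz))]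
        show Φ.ι i (sc Φ.M (y i) a) * psi (Φ.e j) (Φ.ι i (sc Φ.M (y i) a)) =
          Φ.ι i (sc Φ.M (y i) a) * Φ.ι j (sc Φ.M (y i * _) a)
        rw [Φ.rule i j _ hz, mul_comm (y i), sc_mul Φ.scal _ _ ha]
      rw [Finset.prod_insert hi, Finset.sum_insert hi, hFadd, Subgroup.coe_mul,
        show Φ.e j * ((F i (y i) : G) * ((∏ x ∈ s, F x (y x) : P) : G)) * Φ.e j =
          (Φ.e j * (F i (y i) : G) * Φ.e j) * (Φ.e j * ((∏ x ∈ s, F x (y x) : P) : G) * Φ.e j) by
          simp only [mul_assoc, ThreeTrans.mul_self_mul h.three (Φ.mem j)],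
        h1, ih, ← Subgroup.coe_mul]
      exact congrArg Subtype.val (mul_mul_mul_comm _ _ _ _)
  have hLe : ∀ j y, Φ.e j * L y * Φ.e j = L (suVal (ρ (Φ.e j)) *ᵥ y) := by
    intro j y
    have hs : ∑ i, Φ.coef y i * hermForm n K4 2 (Φ.v i) (Φ.v j) = hermForm n K4 2 y (Φ.v j) := by
      conv_rhs => rw [← Φ.coef_sum y]
      simp only [hermForm, Finset.sum_apply, Pi.smul_apply, smul_eq_mul, Finset.sum_mul, Finset.mul_sum,
        mul_assoc]
      exact Finset.sum_comm
    rw [show L y = ((∏ i, F i (Φ.coef y i) : P) : G) from rfl, hconj j Finset.univ (Φ.coef y), hs,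
      Φ.img j, suVal_tv h4, T_apply h4]
    show _ = ((∏ i, F i (Φ.coef (y + hermForm n K4 2 y (Φ.v j) • Φ.v j) i) : P) : G)
    congr 1
    simp only [map_add, map_smul, Φ.coef_v, Pi.add_apply, Pi.smul_apply, smul_eq_mul, hFadd,
      Finset.prod_mul_distrib]
    congr 1
    rw [Finset.prod_eq_single_of_mem j (Finset.mem_univ j) fun i _ hij => by
      rw [Pi.single_eq_of_ne hij, mul_zero, hF0], Pi.single_eq_same, mul_one]
  let S : Subgroup G :=
    { carrier := {g | ∀ y, g * L y * g⁻¹ = L (suVal (ρ g) *ᵥ y)}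
      one_mem' := fun y => by
        rw [one_mul, inv_one, mul_one, map_one]
        exact congrArg L (Matrix.one_mulVec y).symm
      mul_mem' := fun {p q} hp hq y => by
        rw [map_mul, suVal_mul, ← Matrix.mulVec_mulVec, ← hp, ← hq]
        simp only [mul_assoc, _root_.mul_inv_rev]
      inv_mem' := fun {p} hp y => by
        have hy : suVal (ρ p) *ᵥ (suVal (ρ p⁻¹) *ᵥ y) = y := by
          rw [Matrix.mulVec_mulVec, ← suVal_mul, ← map_mul, mul_inv_cancel, map_one]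
          exact Matrix.one_mulVec y
        conv_lhs => rw [← hy, ← hp (suVal (ρ p⁻¹) *ᵥ y)]
        simp [mul_assoc] }
  have hS : S = ⊤ := Φ.gen S fun k d hd hdk y => by
    have hu : d * Φ.e k ∈ U ρ D (ρ (Φ.e k)) := hdk ▸ pair_mem hd (Φ.mem k) hdk
    have hcm : Commute (d * Φ.e k) (L (suVal (ρ (Φ.e k)) *ᵥ y)) :=
      congrArg Subtype.val (mul_comm (⟨_, hPk k _ hu⟩ : P) (∏ i, F i (Φ.coef _ i)))
    rw [hdk]
    calc d * L y * d⁻¹ = (d * Φ.e k) * (Φ.e k * L y * Φ.e k) * (d * Φ.e k)⁻¹ := by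
          rw [_root_.mul_inv_rev, ThreeTrans.inv_eq h.three (Φ.mem k)]
          simp only [mul_assoc, ThreeTrans.mul_self_mul h.three (Φ.mem k)]
      _ = L (suVal (ρ (Φ.e k)) *ᵥ y) := by rw [hLe, hcm.eq, mul_inv_cancel_right]
  have hL : L (Φ.v i0) = a := by
    show ((∏ i, F i (Φ.coef (Φ.v i0) i) : P) : G) = a
    rw [Φ.coef_v, Finset.prod_eq_single_of_mem i0 (Finset.mem_univ i0) fun i _ hij => by
      rw [Pi.single_eq_of_ne hij, hF0], Pi.single_eq_same]
    exact Φ.ι_base a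
  have hcS : c ∈ S := hS ▸ Subgroup.mem_top c
  have h1 := hcS (Φ.v i0)
  rw [hc, hL] at h1
  have h2 : suVal (1 : SU n K4 2) *ᵥ Φ.v i0 = Φ.v i0 := Matrix.one_mulVec _
  rw [h2, hL] at h1
  exact mul_inv_eq_iff_eq_mul.1 h1

theorem elementary_of_fix {H : Type*} [Group H] {ρ : G →* H} (h : Hyp ρ D) (hD : IsThreeTranspositionClass D)
    (hZ : Subgroup.center G = ⊥) (hk : ∀ c, ρ c = 1 ↔ c ∈ pCore 2 G) {e0 : G} (he0 : e0 ∈ D)
    (hfix : ∀ c, ρ c = 1 → ∀ a ∈ U ρ D (ρ e0), Commute c a) :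
    IsElementaryAbelian 2 (pCore 2 G) := by
  have hsq : ∀ c, ρ c = 1 → c * c = 1 := by
    intro c hc
    have hz : ∀ d ∈ D, Commute (c * c) d := by
      intro d hd
      obtain ⟨g, hg⟩ : ∃ g, g * d * g⁻¹ = e0 := by
        obtain ⟨d0, hd0, hcl⟩ := hD.2.1
        have h1 := he0
        exact isConj_iff.1 ((show IsConj d0 d from (hcl.subset hd)).symm.trans (hcl.subset h1))
      set d' := c⁻¹ * d * c with hd'
      have hd'D : d' ∈ D := by simpa using h.conj c⁻¹ d hd
      have hπ : ρ d' = ρ d := by simp [hd', hc]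
      have ha : g * (d' * d) * g⁻¹ ∈ U ρ D (ρ e0) := by
        have h2 := U_conj h g (pair_mem hd'D hd hπ)
        have h3 : ρ g * ρ d' * (ρ g)⁻¹ = ρ e0 := by rw [← hg, hπ]; simp
        rwa [h3] at h2
      have hcomm : Commute c (d' * d) := by
        have h2 := hfix (g * c * g⁻¹) (by simp [hc]) _ ha
        simpa [mul_assoc] using h2.map (MulAut.conj g⁻¹).toMonoidHom
      have hu := pair_mem (π := ρ) hd'D hd hπ
      have e : d * c * d = c * (d' * d) := by simp [hd', mul_assoc]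
      have e2 : d * (c * c) * d = c * c := by
        calc d * (c * c) * d = (d * c * d) * (d * c * d) := by
              simp only [mul_assoc, ThreeTrans.mul_self_mul h.three hd]
          _ = c * (c * (d' * d)) * (d' * d) := by
              rw [e, show c * (d' * d) * (c * (d' * d)) = c * ((d' * d) * c) * (d' * d) by
                simp only [mul_assoc], hcomm.eq]
          _ = c * c := by rw [mul_assoc, mul_assoc c (d' * d), U_sq h hu, mul_one]
      have e3 := congrArg (· * d) e2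
      simp only [mul_assoc, ThreeTrans.mul_self h.three hd, mul_one] at e3
      exact (show c * c * d = d * (c * c) by simpa [mul_assoc] using e3.symm)
    have hcen : c * c ∈ Subgroup.center G := by
      refine Subgroup.mem_center_iff.2 fun g => ?_
      have hg : g ∈ Subgroup.centralizer {c * c} := by
        refine (Subgroup.closure_le _).2 (fun d hd => ?_) (hD.2.2 ▸ Subgroup.mem_top g : g ∈ Subgroup.closure D)
        exact Subgroup.mem_centralizer_singleton_iff.2 (hz d hd).eq.symm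
      exact Subgroup.mem_centralizer_singleton_iff.1 hg
    rwa [hZ, Subgroup.mem_bot] at hcen
  refine ⟨⟨⟨fun a b => Subtype.ext ?_⟩⟩, fun a ha => by rw [pow_two]; exact hsq a ((hk a).2 ha)⟩
  have hm : ∀ x : pCore 2 G, (x : G)⁻¹ = x := fun x => inv_eq_of_mul_eq_one_right (hsq _ ((hk _).2 x.2))
  have := hm (a * b)
  rw [Subgroup.coe_mul, _root_.mul_inv_rev, hm a, hm b] at this
  exact this.symm

theorem Frame.elementary (Φ : Frame ρ D i0) (h : Hyp ρ D) (hD : IsThreeTranspositionClass D)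
    (hZ : Subgroup.center G = ⊥) (hk : ∀ c, ρ c = 1 ↔ c ∈ pCore 2 G) :
    IsElementaryAbelian 2 (pCore 2 G) :=
  elementary_of_fix h hD hZ hk (Φ.mem i0) fun _ hc _ ha => Φ.radical_fix h hc ha

end Cfsg.Agent.Fus.SUTwoRadical
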