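import Cfsg.Agent.Lib.Fus.SUTwoRadical.Fibre
import Cfsg.Agent.Lib.Block.FischerTypes.U6Class
import Cfsg.Agent.Lib.Spor.SUFieldCongr
import Cfsg.Agent.Lib.Spor.USixTwo.K4
import Cfsg.Agent.Lib.Transfer.Cores
import Cfsg.Prelude.Def_Solvable

/-! The roots of `SU_n(2)` as the image of a class of 3-transpositions, for `n` prime to 3. -/

set_option autoImplicit false
set_option linter.unusedSectionVars false

namespace Cfsg.Agent.Fus.SUTwoRadical

open Matrix Cfsg Cfsg.Agent.Classical Cfsg.Agent.Classical.PSUAut Cfsg.Agent.Spor Cfsg.Agent.Spor.UnitTwo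
open Cfsg.Agent.Spor.USixTwo Cfsg.Agent.Block.FischerTypes

theorem h4 : Fintype.card K4 = 4 := rfl

variable {n : ℕ}

theorem suToPSU_injective (hn : 3 ≤ n) (h3 : n % 3 ≠ 0) : Function.Injective (suToPSU n K4 2) := by
  rw [injective_iff_map_eq_one]
  intro s hs
  obtain ⟨l, hl⟩ := (pi_eq_one_iff (card_sq h4)).1 hs
  have hd : (suVal s).det = 1 := s.1.2
  rw [hl, Matrix.det_smul, Matrix.det_one, mul_one, Fintype.card_fin] at hd
  have hl0 : l ≠ 0 := by rintro rfl; rw [zero_pow (by omega)] at hd; exact zero_ne_one hd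
  have hl3 : l ^ 3 = 1 := by simpa [h4] using FiniteField.pow_card_sub_one_eq_one l hl0
  have hl1 : l = 1 := by
    have := pow_gcd_eq_one.2 ⟨hd, hl3⟩
    rwa [show Nat.gcd n 3 = 1 by
      rw [Nat.gcd_comm]; exact (Nat.prime_three.coprime_iff_not_dvd).2 fun k => h3 (Nat.mod_eq_zero_of_dvd k),
      pow_one] at this
  exact suVal_ext (hl.trans (by rw [hl1, one_smul]; rfl))

variable {G : Type*} [Group G] [Finite G] {D : Set G}

/-- The map onto the projective group, with the roots as image of the class. -/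
theorem exists_proj (hD : IsThreeTranspositionClass D) (hn : 3 ≤ n) (h3 : n % 3 ≠ 0)
    {F : Type} [Field F] [Fintype F] (hF : Fintype.card F = 4) [(pCore 2 G).Normal]
    (θ : G ⧸ pCore 2 G ≃* SU n F 2) :
    ∃ π : G →* PSU n K4 2, Hyp π D ∧ (∀ c, π c = 1 ↔ c ∈ pCore 2 G) ∧ π '' D = U6.roots h4 n := by
  let φ : F ≃+* K4 := FiniteField.ringEquivOfCardEq (hF.trans h4.symm)
  let π : G →* PSU n K4 2 := (suToPSU n K4 2).comp
    (((θ.trans (SUCongr.equiv 2 φ)).toMonoidHom).comp (QuotientGroup.mk' (pCore 2 G)))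
  have hker : ∀ c, π c = 1 ↔ c ∈ pCore 2 G := fun c => by
    constructor
    · intro hc
      have h1 : (θ.trans (SUCongr.equiv 2 φ)) (QuotientGroup.mk' (pCore 2 G) c) = 1 :=
        suToPSU_injective hn h3 (by rw [map_one]; exact hc)
      exact (QuotientGroup.eq_one_iff c).1 ((MulEquiv.map_eq_one_iff _).1 h1)
    · intro hc
      simp [π, (QuotientGroup.eq_one_iff c).2 hc]
  have hsurj : Function.Surjective π := by
    intro x
    obtain ⟨s, rfl⟩ := pi_surjective x
    obtain ⟨q, hq⟩ := (θ.trans (SUCongr.equiv 2 φ)).surjective s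
    obtain ⟨g, rfl⟩ := QuotientGroup.mk'_surjective _ q
    exact ⟨g, by simp only [π, MonoidHom.comp_apply, MulEquiv.coe_toMonoidHom, hq]⟩
  have hne : ∀ d ∈ D, π d ≠ 1 := by
    intro d hd he
    obtain ⟨d0, hd0, hc⟩ := hD.2.1
    have hall : Subgroup.closure D ≤ π.ker := (Subgroup.closure_le _).2 fun x hx => by
      rw [hc] at hd hx
      obtain ⟨g, rfl⟩ := isConj_iff.1 ((show IsConj d0 d from hd).symm.trans hx)
      simp [he]
    obtain ⟨v, hv0, hv⟩ := exists_isotropic (card_sq h4) (n := n) (F := K4) (by omega)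
    obtain ⟨g, hg⟩ := hsurj (U6.root h4 hv)
    rw [MonoidHom.mem_ker.1 (hall (hD.2.2 ▸ Subgroup.mem_top g))] at hg
    refine T_ne_one h4 hv0 ?_
    have := suToPSU_injective hn h3 (a₁ := tv h4 hv) (a₂ := 1) (by rw [map_one]; exact hg.symm)
    exact congrArg suVal this
  have hE : IsThreeTranspositionClass (π '' D) := by
    refine ⟨⟨?_, ?_⟩, ?_, ?_⟩
    · rintro _ ⟨d, hd, rfl⟩
      refine orderOf_eq_prime ?_ (hne d hd)
      rw [← map_pow, pow_two, ThreeTrans.mul_self hD.1 hd, map_one]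
    · rintro _ ⟨d, hd, rfl⟩ _ ⟨e, he, rfl⟩
      rcases hD.1.2 d hd e he with k | k
      · left; rw [← map_mul, ← map_pow, k, map_one]
      · right; rw [← map_mul, ← map_pow, k, map_one]
    · obtain ⟨d0, hd0, hc⟩ := hD.2.1
      refine ⟨π d0, ⟨d0, hd0, rfl⟩, Set.ext fun y => ⟨?_, ?_⟩⟩
      · rintro ⟨d, hd, rfl⟩
        rw [hc] at hd
        obtain ⟨g, rfl⟩ := isConj_iff.1 (show IsConj d0 d from hd)
        exact isConj_iff.2 ⟨π g, by simp⟩
      · intro hy
        obtain ⟨y', rfl⟩ := isConj_iff.1 (show IsConj (π d0) y from hy)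
        obtain ⟨g, rfl⟩ := hsurj y'
        refine ⟨g * d0 * g⁻¹, ?_, by simp⟩
        rw [hc]
        exact isConj_iff.2 ⟨g, rfl⟩
    · rw [← MonoidHom.map_closure, hD.2.2, Subgroup.map_top_of_surjective π hsurj]
  refine ⟨π, ⟨hD.1, fun g d hd => ?_, fun c hc => ?_⟩, hker, U6.class_eq h4 hn hE⟩
  · obtain ⟨d0, hd0, hc⟩ := hD.2.1
    rw [hc] at hd ⊢
    exact IsConj.trans hd (isConj_iff.2 ⟨g, rfl⟩)
  · obtain ⟨k, hk⟩ := Transfer.pCore_isPGroup 2 G ⟨c, (hker c).1 hc⟩
    exact ⟨k, by simpa [Subtype.ext_iff] using hk⟩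

end Cfsg.Agent.Fus.SUTwoRadical
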